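import Cfsg.Agent.SpFourResidual.Transv.Binary

/-!
Some pair of orthogonal centres has two different nonzero values at a third one.
-/

set_option autoImplicit false
set_option linter.unusedSectionVars false
set_option linter.unusedSimpArgs false

namespace Cfsg.Lib.SpFourResidual

open Matrix Cfsg.Lie

universe u

variable {F : Type u} [Field F] [Finite F] [CharP F 2] {P : Subgroup (GL (Fin 4) F)}

local notation "GG" => GL (Fin 4) F
local notation "VV" => (Fin 4 → F)

/-- The centres not orthogonal to a given centre span the space. -/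
theorem Setup.span_nonperp (S : Setup P) {u : VV} (hu : u ∈ centres P) :
    Submodule.span F {v | v ∈ centres P ∧ bf u v ≠ 0} = ⊤ := by
  have hne : (centres P).Nonempty := ⟨u, hu⟩
  obtain ⟨v₀, hv₀, huv₀⟩ := S.exists_nonperp hne hu.1
  refine (S.irr _ fun g hg w hw => ?_).resolve_left fun e => hv₀.1 ((Submodule.mem_bot F).1
    (e ▸ Submodule.subset_span ⟨hv₀, huv₀⟩))
  refine stable_of_centres (fun d hd z hz => ?_) (S.gen hne) hg w hw
  induction hz using Submodule.span_induction with
  | mem z hz =>
    by_cases hud : bf u d = 0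
    · refine Submodule.subset_span ⟨centres_map S.le hd.2 hz.1, ?_⟩
      rw [mv_tv, map_add, map_smul, hud, smul_zero, add_zero]
      exact hz.2
    · rw [mv_tv]
      exact Submodule.add_mem _ (Submodule.subset_span hz) (Submodule.smul_mem _ _ (Submodule.subset_span ⟨hd, hud⟩))
  | zero => simp [mv]
  | add a b _ _ ha hb => rw [mv_add]; exact Submodule.add_mem _ ha hb
  | smul c a _ ha => rw [mv_smul]; exact Submodule.smul_mem _ c ha

/-- An uneven triple exists. -/
theorem Setup.exists_uneven (S : Setup P) (hne : (centres P).Nonempty) :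
    ∃ u ∈ centres P, ∃ w ∈ centres P, ∃ v ∈ centres P,
      u ≠ w ∧ bf u w = 0 ∧ bf v u ≠ 0 ∧ bf v w ≠ 0 ∧ bf v u ≠ bf v w := by
  by_contra hc
  push Not at hc
  have heq : ∀ {u w v : VV}, u ∈ centres P → w ∈ centres P → v ∈ centres P → u ≠ w → bf u w = 0 →
      bf v u ≠ 0 → bf v w ≠ 0 → bf v u = bf v w := fun {u w v} hu hw hv h1 h2 h3 h4 =>
    hc u hu w hw v hv h1 h2 h3 h4
  have pair_one : ∀ {u x y : VV}, u ∈ centres P → x ∈ centres P → y ∈ centres P → bf x u = 0 → bf y u = 0 →
      bf x y ≠ 0 → bf x y = 1 := by
    intro u x y hu hx hy hxu hyu he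
    obtain ⟨v, ⟨hv, hvu⟩, hvx⟩ : ∃ v, (v ∈ centres P ∧ bf u v ≠ 0) ∧ bf x v ≠ 0 := by
      by_contra hno
      push Not at hno
      have : bf x = 0 := LinearMap.ext_on (S.span_nonperp hu) fun v hv => by
        rw [hno v hv, LinearMap.zero_apply]
      exact he (by rw [this, LinearMap.zero_apply])
    rw [bf_symm] at hvu hvx
    have hyne : y ≠ u := fun e => he (by rw [e, hxu])
    have hxne : x ≠ u := fun e => he (by rw [e, bf_symm, hyu])
    have h1 := heq hu hx hv hxne.symm (by rw [bf_symm, hxu]) hvu hvx
    by_cases hvy : bf v y = 0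
    · have hw := centres_step S.le hx hy
      have e1 : bf v (y + bf y x • x) = bf x y * bf v u := by
        rw [map_add, hvy, zero_add, map_smul, smul_eq_mul, ← h1, bf_symm y x]
      have h2 := heq hu hw hv (fun e => ?_) (by rw [bf_symm]; simp [hyu, hxu]) hvu
        (by rw [e1]; exact mul_ne_zero he hvu)
      · rw [e1] at h2
        exact mul_right_cancel₀ hvu (by rw [one_mul]; exact h2.symm)
      · have := congrArg (bf x) e
        simp [bf_self, hxu] at this
        exact he this.symm
    · have h3 := heq hu hy hv hyne.symm (by rw [bf_symm, hyu]) hvu hvy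
      have hz := centres_step S.le hy hx
      have e1 : bf v (x + bf x y • y) = bf v u + bf x y * bf v u := by
        rw [map_add, map_smul, smul_eq_mul, ← h1, ← h3]
      by_cases h0 : bf v (x + bf x y • y) = 0
      · rw [e1] at h0
        refine mul_right_cancel₀ hvu ?_
        rw [one_mul]
        exact (CharTwo.add_eq_zero.1 h0).symm
      · exfalso
        have h4 := heq hu hz hv (fun e => ?_) (by rw [bf_symm]; simp [hyu, hxu]) hvu h0
        · rw [e1, eq_comm, add_eq_left] at h4
          exact mul_ne_zero he hvu h4
        · have := congrArg (fun t => bf t y) e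
          simp [bf_self, bf_symm u y, hyu] at this
          exact he this.symm
  obtain ⟨v, hv, u, hu, hvu, hc1⟩ := S.exists_value hne
  have key : ∀ {w : VV}, w ∈ centres P → bf u w = 0 → w ≠ u → bf v w = bf v u := by
    intro w hw huw hwu
    by_cases h : bf v w = 0
    · exact absurd (pair_one hw hv hu h huw hvu) hc1
    · exact (heq hu hw hv hwu.symm huw hvu h).symm
  obtain ⟨w, hw, hwu, huw⟩ := S.exists_perp hne hu
  have hperp : ∀ {d : VV}, d ∈ centres P → bf u d = 0 → bf w d = 0 := by
    intro d hd hud
    by_contra he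
    have h1 := pair_one hu hw hd (by rw [bf_symm, huw]) (by rw [bf_symm, hud]) he
    have hz := centres_step S.le hd hw
    rw [h1, one_smul] at hz
    have hzu : w + d ≠ u := fun e => by
      have := congrArg (fun t => bf t d) e
      simp [bf_self, hud, he] at this
    have hdu : d ≠ u := fun e => he (by rw [e, bf_symm, huw])
    have h2 := key hz (by rw [map_add, huw, hud, add_zero]) hzu
    rw [map_add, key hw huw hwu, key hd hud hdu, CharTwo.add_self_eq_zero] at h2
    exact hvu h2.symm
  have hall : ∀ d ∈ centres P, bf (u + w) d = 0 := by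
    intro d hd
    rw [map_add, LinearMap.add_apply]
    by_cases hud : bf u d = 0
    · rw [hud, hperp hd hud, add_zero]
    by_cases hwd : bf w d = 0
    · exfalso
      have hg : bf u d = 1 := pair_one hw hu hd huw (by rw [bf_symm, hwd]) hud
      have hdw : d ≠ w := fun e => hud (by rw [e, huw])
      have hvw := key hw huw hwu
      have hvd : bf v d = bf v u := by
        by_cases h : bf v d = 0
        · exfalso
          have hne' : v ≠ d := fun e => hc1 (by rw [e, bf_symm, hg])
          have h2 := heq hv hd hu hne' h (by rw [bf_symm]; exact hvu) hud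
          rw [hg, bf_symm] at h2
          exact hc1 h2
        · rw [← heq hw hd hv hdw.symm hwd (by rw [hvw]; exact hvu) h, hvw]
      have hz := centres_step S.le hu hd
      rw [bf_symm d u, hg, one_smul] at hz
      have hvz : bf v (d + u) = 0 := by rw [map_add, hvd, CharTwo.add_self_eq_zero]
      have huz : bf u (d + u) = 1 := by rw [map_add, bf_self, add_zero, hg]
      have hne' : v ≠ d + u := fun e => hc1 (by rw [e, bf_symm, huz])
      have h2 := heq hv hz hu hne' hvz (by rw [bf_symm]; exact hvu) (by rw [huz]; exact one_ne_zero)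
      rw [huz, bf_symm] at h2
      exact hc1 h2
    · have h2 := heq hu hw hd hwu.symm huw (by rwa [bf_symm]) (by rwa [bf_symm])
      rw [bf_symm d u, bf_symm d w] at h2
      rw [h2, CharTwo.add_self_eq_zero]
  have h0 : u + w = 0 := by
    by_contra h
    obtain ⟨d, hd, h'⟩ := S.exists_nonperp hne h
    exact h' (hall d hd)
  exact hwu (funext fun i => (CharTwo.add_eq_zero.1 (congrFun h0 i)).symm)

end Cfsg.Lib.SpFourResidual
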