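import Cfsg.Agent.SpFourResidual.Transv.Setup

/-!
If all centres take the value one on a quadratic form polarising to the symplectic form, the Dickson parity is a
homomorphism which is one on every transvection.
-/

set_option autoImplicit false
set_option linter.unusedSectionVars false
set_option linter.unusedSimpArgs false

namespace Cfsg.Lib.SpFourResidual

open Matrix Cfsg.Lie

universe u

variable {F : Type u} [Field F]

local notation "GG" => GL (Fin 4) F
local notation "VV" => (Fin 4 → F)

/-- The split quadratic form. -/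
def q0 (z : VV) : F := z 0 * z 3 + z 1 * z 2

/-- Cross terms of the two columns of a hyperbolic pair. -/
def cross (a a' : VV) : F := a 3 * a' 0 + a 2 * a' 1

/-- The parity of a matrix. -/
def delta (g : GG) : F :=
  cross (mv g (Pi.single 0 1)) (mv g (Pi.single 3 1)) + cross (mv g (Pi.single 1 1)) (mv g (Pi.single 2 1))

theorem q0_add (y z : VV) : q0 (y + z) = q0 y + q0 z + bf y z := by simp [q0, bf_def]; ring

theorem q0_smul (c : F) (z : VV) : q0 (c • z) = c ^ 2 * q0 z := by simp [q0]; ring

variable [CharP F 2]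

theorem delta_tv_mul {g : GG} (hg : g ∈ Sp4 F) (v : VV) :
    delta (tv v * g) = delta g + q0 v + (q0 v + 1) * q0 (mv g⁻¹ v) := by
  set a := mv g (Pi.single 0 1) with ha
  set a' := mv g (Pi.single 3 1) with ha'
  set b := mv g (Pi.single 1 1) with hb
  set b' := mv g (Pi.single 2 1) with hb'
  have h2 := CharTwo.two_eq_zero (R := F)
  have hpres := mem_Sp4_iff.1 hg
  have hexp := quad_expand (p := a) (q := a') (r := b) (s := b')
    (by rw [ha, ha', hpres]; simp [bf_def]) (by rw [hb, hb', hpres]; simp [bf_def])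
    (by rw [ha, hb, hpres]; simp [bf_def]) (by rw [ha, hb', hpres]; simp [bf_def])
    (by rw [ha', hb, hpres]; simp [bf_def]) (by rw [ha', hb', hpres]; simp [bf_def]) v
  have hco : ∀ z : VV, bf (mv g z) v = bf z (mv g⁻¹ v) := fun z => by
    conv_lhs => rw [← mv_inv' g v, hpres]
  set w := mv g⁻¹ v
  have x1 : bf a v = w 3 := by rw [ha, hco]; simp [bf_def]
  have y1 : bf a' v = w 0 := by rw [ha', hco]; simp [bf_def]
  have x2 : bf b v = w 2 := by rw [hb, hco]; simp [bf_def]
  have y2 : bf b' v = w 1 := by rw [hb', hco]; simp [bf_def]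
  rw [bf_symm v a', bf_symm v a, bf_symm v b', bf_symm v b, x1, y1, x2, y2] at hexp
  set A := w 0 • a + w 1 • b with hA
  set A' := w 3 • a' + w 2 • b' with hA'
  have hv : v = A + A' := hexp.trans (by rw [hA, hA']; abel)
  have hB : bf A A' = q0 w := by
    rw [hA, hA']
    simp only [map_add, map_smul, LinearMap.add_apply, LinearMap.smul_apply, smul_eq_mul]
    rw [ha, ha', hb, hb', hpres, hpres, hpres, hpres]
    simp [bf_def, q0]
    ring
  have hL : w 3 * cross v a' + w 0 * cross a v + (w 2 * cross v b' + w 1 * cross b v) = cross v A' + cross A v := by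
    simp [cross, hA, hA']; ring
  have hkey : cross v A' + cross A v = q0 v + bf A A' := by
    rw [hv]
    simp only [cross, q0, bf_def, Pi.add_apply]
    linear_combination (-(A 0 * A' 3) - (A 1 * A' 2)) * h2
  have hcross : ∀ (s t : F) (p p' : VV), cross (p + s • v) (p' + t • v) =
      cross p p' + s * cross v p' + t * cross p v + s * t * q0 v := fun s t p p' => by
    simp [cross, q0]; ring
  simp only [delta, mv_mul, mv_tv, ← ha, ← ha', ← hb, ← hb', hcross, x1, y1, x2, y2]
  rw [hB] at hkey
  have hq : q0 w = w 0 * w 3 + w 1 * w 2 := rfl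
  linear_combination hL + hkey - q0 v * hq

variable [Finite F] {P : Subgroup (GL (Fin 4) F)}

/-- No quadratic form polarising to the symplectic form is one on all centres. -/
theorem Setup.no_form (S : Setup P) (hne : (centres P).Nonempty) (ℓ : VV →ₗ[F] F)
    (h : ∀ v ∈ centres P, q0 v + ℓ v ^ 2 = 1) : False := by
  have h2 := CharTwo.two_eq_zero (R := F)
  set w : VV := ![ℓ (Pi.single 3 1), ℓ (Pi.single 2 1), ℓ (Pi.single 1 1), ℓ (Pi.single 0 1)] with hw
  have hℓ : bf w = ℓ := (Pi.basisFun F (Fin 4)).ext fun i => by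
    rw [Pi.basisFun_apply, bf_def, hw]; fin_cases i <;> simp [Pi.single_apply]
  rw [← hℓ] at h
  let Q : VV → F := fun z => q0 z + bf w z ^ 2
  have hQ : ∀ g ∈ P, ∀ z, Q (mv g z) = Q z := by
    intro g hg
    rw [← S.gen hne] at hg
    have ht : ∀ v ∈ centres P, ∀ z, Q (mv (tv v) z) = Q z := fun v hv z => by
      have := h v hv
      simp only [Q, mv_tv, q0_add, q0_smul, map_add, map_smul, smul_eq_mul]
      linear_combination bf z v ^ 2 * this + (bf z v ^ 2 + bf w z * bf z v * bf w v) * h2
    induction hg using Subgroup.closure_induction_left with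
    | one => intro z; rw [mv_one]
    | mul_left x hx y _ ih => obtain ⟨v, hv, rfl⟩ := hx; intro z; rw [mv_mul, ht v hv, ih]
    | inv_mul_cancel x hx y _ ih => obtain ⟨v, hv, rfl⟩ := hx; intro z; rw [tv_inv, mv_mul, ht v hv, ih]
  let Φ : GG → F := fun g => delta g + q0 (mv g w) + (delta (1 : GG) + q0 w)
  have hΦ1 : Φ 1 = 0 := by simp only [Φ, mv_one]; exact CharTwo.add_self_eq_zero _
  have hstep : ∀ v ∈ centres P, ∀ g ∈ P, Φ (tv v * g) = Φ g + 1 := fun v hv g hg => by
    have hv1 := h v hv
    have hq := hQ g⁻¹ (P.inv_mem hg) v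
    simp only [Q] at hq
    have hs : bf w (mv g⁻¹ v) = bf (mv g w) v := by
      conv_rhs => rw [← mv_inv' g v, mem_Sp4_iff.1 (S.le hg)]
    simp only [Φ, delta_tv_mul (S.le hg), mv_mul, mv_tv, q0_add, q0_smul, map_smul, smul_eq_mul]
    rw [hs] at hq
    linear_combination (q0 v + 1) * hq + (q0 v + 1) * hv1 + q0 v * h2
  have hadd : ∀ g ∈ P, ∀ g' ∈ P, Φ (g * g') = Φ g + Φ g' := by
    intro g hg g' hg'
    rw [← S.gen hne] at hg
    induction hg using Subgroup.closure_induction_left with
    | one => rw [one_mul, hΦ1, zero_add]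
    | mul_left x hx y hy ih =>
      obtain ⟨v, hv, rfl⟩ := hx
      have hyP : y ∈ P := S.gen hne ▸ hy
      rw [mul_assoc, hstep v hv _ (P.mul_mem hyP hg'), hstep v hv y hyP, ih]; ring
    | inv_mul_cancel x hx y hy ih =>
      obtain ⟨v, hv, rfl⟩ := hx
      have hyP : y ∈ P := S.gen hne ▸ hy
      rw [tv_inv, mul_assoc, hstep v hv _ (P.mul_mem hyP hg'), hstep v hv y hyP, ih]; ring
  haveI := S.simple
  let χ : P →* Multiplicative F :=
    { toFun := fun g => Multiplicative.ofAdd (Φ g)
      map_one' := by rw [OneMemClass.coe_one, hΦ1]; rfl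
      map_mul' := fun g g' => by rw [Subgroup.coe_mul, hadd g g.2 g' g'.2, ofAdd_add] }
  rcases IsSimpleGroup.eq_bot_or_eq_top_of_normal χ.ker inferInstance with e | e
  · refine S.nonab ⟨⟨fun a b => (MonoidHom.ker_eq_bot_iff χ).1 e ?_⟩⟩
    rw [map_mul, map_mul, mul_comm]
  · obtain ⟨v, hv⟩ := hne
    have h1 : Φ (tv v) = 0 := MonoidHom.mem_ker.1 (show (⟨tv v, hv.2⟩ : P) ∈ χ.ker from e ▸ Subgroup.mem_top _)
    have h3 := hstep v hv 1 P.one_mem
    rw [mul_one, h1, hΦ1, zero_add] at h3
    exact zero_ne_one h3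

end Cfsg.Lib.SpFourResidual
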