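import Cfsg.Agent.SpFourResidual.Transv.Local
import Cfsg.Agent.SpFourResidual.Transv.Parity

/-!
One parameter on each centre and an uneven triple: the centres are the vectors of value one of a quadratic form.
-/

set_option autoImplicit false
set_option linter.unusedSectionVars false
set_option linter.unusedSimpArgs false

namespace Cfsg.Lib.SpFourResidual

open Matrix Cfsg.Lie

universe u

variable {F : Type u} [Field F] [Finite F] [CharP F 2] {P : Subgroup (GL (Fin 4) F)}

local notation "GG" => GL (Fin 4) F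
local notation "VV" => (Fin 4 → F)

/-- One parameter on each centre and every centre big. -/
structure Rigid (P : Subgroup (GL (Fin 4) F)) (k : Subfield F) : Prop where
  le : P ≤ Sp4 F
  one : ∀ v ∈ centres P, ∀ a : F, a • v ∈ centres P → a = 1
  big : ∀ r ∈ centres P, Big P k r

theorem Big.smul {k : Subfield F} {r : VV} (B : Big P k r) {s : F} (hs : s ≠ 0) : Big P k (s • r) := by
  have hperp : ∀ {x : VV}, bf x (s • r) = 0 → bf x r = 0 := fun {x} h => by
    rw [map_smul, smul_eq_mul] at h; exact (mul_eq_zero.1 h).resolve_left hs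
  refine ⟨smul_ne_zero hs B.ne, B.two, ?_, fun x hx hxr hxn l hl => ?_,
    fun x hx hxr y hy hyr => B.val x hx (hperp hxr) y hy (hperp hyr)⟩
  · obtain ⟨e, he, f, hf, h1, h2, h3⟩ := B.pair
    exact ⟨e, he, f, hf, by rw [map_smul, h1, smul_zero], by rw [map_smul, h2, smul_zero], h3⟩
  · rw [← B.par x hx (hperp hxr) (fun γ e => hxn (γ / s) (by rw [smul_smul, div_mul_cancel₀ _ hs]; exact e)) l hl]
    refine ⟨fun ⟨β, h⟩ => ⟨β * s, by rwa [← smul_smul]⟩, fun ⟨β, h⟩ => ⟨β / s, ?_⟩⟩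
    rwa [smul_smul, div_mul_cancel₀ _ hs]

variable {k : Subfield F} (R : Rigid P k) {r : Fin 4 → F} (hr : r ∈ centres P)

include R hr

theorem Rigid.partner {x : VV} (hx : x ∈ centres P) (hxr : bf x r = 0) (hne : x ≠ r) :
    ∃ y ∈ centres P, bf y r = 0 ∧ bf x y ≠ 0 := by
  obtain ⟨e, he, f, hf, h1, h2, h3⟩ := (R.big r hr).pair
  by_contra hc
  push Not at hc
  obtain ⟨γ, hγ⟩ := mem_line hr.1 h3 h1 h2 hxr
  rw [hc f hf h2, bf_symm e x, hc e he h1, zero_div, zero_smul, zero_smul, zero_add, zero_add] at hγ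
  exact hne (by rw [hγ, R.one r hr γ (hγ ▸ hx), one_smul])

/-- No two centres have one image. -/
theorem Rigid.unique {x x' : VV} (hx : x ∈ centres P) (hx' : x' ∈ centres P) (hxr : bf x r = 0) (hne : x ≠ r) {δ : F}
    (h : x' = x + δ • r) : x' = x := by
  rcases eq_or_ne δ 0 with rfl | hδ
  · rw [h, zero_smul, add_zero]
  exfalso
  obtain ⟨y, hy, hyr, hxy⟩ := R.partner hr hx hxr hne
  have B := R.big r hr
  obtain ⟨l, hl, hl0, hl1⟩ := B.two
  have h1 := R.one r hr _ (B.collide R.le hx hy hxr hyr hxy (h ▸ hx') hδ hl hl0 hl1)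
  have h2 := R.one r hr _ (B.collide R.le hx hy hxr hyr hxy (h ▸ hx') hδ (k.inv_mem hl) (inv_ne_zero hl0)
    (fun e => hl1 (inv_eq_one.1 e)))
  have := mul_left_cancel₀ hδ (h1.trans h2.symm)
  rw [inv_inv] at this
  have h3 : l⁻¹ = l := add_left_cancel this
  refine hl1 (CharTwo.sq_inj.1 ?_)
  rw [one_pow, pow_two]
  nth_rewrite 1 [← h3]
  exact inv_mul_cancel₀ hl0

/-- The lifts on a line form an affine line over the subfield. -/
theorem Rigid.lift {x : VV} (hx : x ∈ centres P) (hxr : bf x r = 0) (hne : x ≠ r) {μ : F} (hμ : μ ∈ k) (hμ0 : μ ≠ 0) :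
    r + μ • (x + r) ∈ centres P := by
  classical
  haveI : Fintype k := Fintype.ofFinite k
  have hnm : ∀ γ : F, x ≠ γ • r := fun γ e => hne (by rw [e, R.one r hr γ (e ▸ hx), one_smul])
  have hex : ∀ m : {m : k // m ≠ 0}, ∃ β : F, (m.1 : F) • x + β • r ∈ centres P := fun m =>
    ((R.big r hr).par x hx hxr hnm _ (fun e => m.2 (Subtype.ext e))).2 m.1.2
  choose s hs using hex
  have hval : ∀ m l : {m : k // m ≠ 0}, m ≠ l → s m + (m.1 : F) / (l.1 : F) * s l ∈ k ∧
      s m + (m.1 : F) / (l.1 : F) * s l ≠ 0 ∧ s m + (m.1 : F) / (l.1 : F) * s l ≠ 1 := by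
    intro m l hml
    have hl0 : (l.1 : F) ≠ 0 := fun e => l.2 (Subtype.ext e)
    have hm0 : (m.1 : F) ≠ 0 := fun e => m.2 (Subtype.ext e)
    set c := (l.1 : F) • x + s l • r with hc
    have hcD : c ∈ centres P := hs l
    have hcr : bf c r = 0 := by simp [hc, hxr, bf_self]
    have hrc : bf r c = 0 := by rw [bf_symm, hcr]
    have hrn : ∀ γ : F, r ≠ γ • c := fun γ e => by
      rcases eq_or_ne γ 0 with rfl | hγ
      · exact hr.1 (by rw [e, zero_smul])
      refine hnm ((1 + γ * s l) / (γ * l.1)) ?_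
      rw [hc, smul_add, smul_smul, smul_smul] at e
      funext i
      have ei := congrFun e i
      simp at ei ⊢
      field_simp
      linear_combination -ei - (r i * (γ * s l)) * (CharTwo.two_eq_zero (R := F))
    set t := s m + (m.1 : F) / l.1 * s l
    have hpt : t • r + ((m.1 : F) / l.1) • c = (m.1 : F) • x + s m • r := by
      simp only [hc, t, smul_add, smul_smul, div_mul_cancel₀ _ hl0, add_smul]
      linear_combination (norm := module) vadd_self (((m.1 : F) / l.1 * s l) • r)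
    have ht0 : t ≠ 0 := fun e => by
      rw [e, zero_smul, zero_add] at hpt
      have := R.one c hcD _ (hpt ▸ hs m)
      exact hml (Subtype.ext (Subtype.ext (div_eq_one_iff_eq hl0 |>.1 this)))
    refine ⟨((R.big c hcD).par r hr hrc hrn t ht0).1 ⟨_, hpt ▸ hs m⟩, ht0, fun e => ?_⟩
    rw [e, one_smul] at hpt
    have hrne : r ≠ c := fun e' => hrn 1 (by rw [one_smul]; exact e')
    have h2 := R.unique hcD hr (hpt ▸ hs m) hrc hrne rfl
    rw [add_eq_left] at h2
    exact (smul_ne_zero (div_ne_zero hm0 hl0) hcD.1) h2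
  let u1 : {m : k // m ≠ 0} := ⟨1, one_ne_zero⟩
  have hs1 : s u1 = 0 := by
    have h := R.unique hr hx (x' := (u1.1 : F) • x + s u1 • r) (hs u1) hxr hne
      (show (u1.1 : F) • x + s u1 • r = x + s u1 • r by simp [u1])
    simp [u1] at h
    exact h.resolve_right hr.1
  have hsk : ∀ m, s m ∈ k := fun m => by
    rcases eq_or_ne m u1 with rfl | hm
    · rw [hs1]; exact k.zero_mem
    · simpa [hs1] using (hval m u1 hm).1
  let h : {m : k // m ≠ 0} → k := fun m => ⟨s m / m.1, k.div_mem (hsk m) m.1.2⟩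
  have hinj : Function.Injective h := fun m l e => by
    by_contra hml
    have e' : s m / m.1 = s l / l.1 := congrArg Subtype.val e
    refine (hval m l hml).2.1 ?_
    have hl0 : (l.1 : F) ≠ 0 := fun e => l.2 (Subtype.ext e)
    have hm0 : (m.1 : F) ≠ 0 := fun e => m.2 (Subtype.ext e)
    field_simp at e' ⊢
    linear_combination e' + (m.1 * s l : F) * (CharTwo.two_eq_zero (R := F))
  have hmiss : ∀ m l, h m + m.1⁻¹ ≠ h l := fun m l e => by
    have e' : s m / m.1 + (m.1 : F)⁻¹ = s l / l.1 := congrArg Subtype.val e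
    have hl0 : (l.1 : F) ≠ 0 := fun e => l.2 (Subtype.ext e)
    have hm0 : (m.1 : F) ≠ 0 := fun e => m.2 (Subtype.ext e)
    rcases eq_or_ne m l with rfl | hml
    · exact inv_ne_zero hm0 (add_eq_left.1 e')
    · refine (hval m l hml).2.2 ?_
      field_simp at e' ⊢
      linear_combination e' + (m.1 * s l - (l.1 : F)) * (CharTwo.two_eq_zero (R := F))
  have hmiss_unique : ∀ y y' : k, (∀ l, h l ≠ y) → (∀ l, h l ≠ y') → y = y' := by
    intro y y' hy hy'
    by_contra hne'
    have hsub : (Finset.univ.image h) ⊆ ((Finset.univ.erase y).erase y') := fun z hz => by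
      obtain ⟨l, -, rfl⟩ := Finset.mem_image.1 hz
      simp [hy l, hy' l]
    have h1 := Finset.card_le_card hsub
    rw [Finset.card_image_of_injective _ hinj, Finset.card_univ, Fintype.card_subtype_compl,
      Fintype.card_subtype_eq, Finset.card_erase_of_mem (by simp [Ne.symm hne']),
      Finset.card_erase_of_mem (Finset.mem_univ y), Finset.card_univ] at h1
    have h2 := Fintype.one_lt_card (α := k)
    omega
  let m : {m : k // m ≠ 0} := ⟨⟨μ, hμ⟩, fun e => hμ0 (congrArg Subtype.val e)⟩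
  have key := hmiss_unique _ _ (fun l => (hmiss m l).symm) (fun l => (hmiss u1 l).symm)
  have key' : s m / μ + μ⁻¹ = s u1 / 1 + 1⁻¹ := by simpa [h, m, u1] using congrArg Subtype.val key
  rw [hs1, zero_div, inv_one, zero_add] at key'
  have hsm : s m = μ + 1 := by
    field_simp at key'
    linear_combination key' - (CharTwo.two_eq_zero (R := F))
  have := hs m
  rw [hsm] at this
  convert this using 1
  show r + μ • (x + r) = μ • x + (μ + 1) • r
  module

/-- On the centres orthogonal to `r` a form is decided by three values. -/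
theorem Rigid.local_form (ℓ : VV →ₗ[F] F) {x y : VV} (hx : x ∈ centres P) (hy : y ∈ centres P) (hxr : bf x r = 0)
    (hyr : bf y r = 0) (hxy : bf x y ≠ 0) (qr : q0 r + ℓ r ^ 2 = 1) (qx : q0 x + ℓ x ^ 2 = 1)
    (qy : q0 y + ℓ y ^ 2 = 1) {d : VV} (hd : d ∈ centres P) (hdr : bf d r = 0) : q0 d + ℓ d ^ 2 = 1 := by
  have h2 := CharTwo.two_eq_zero (R := F)
  set c := bf x y
  have hxn : x ≠ r := fun e => notMult_of_bf hyr hxy 1 (by rw [one_smul]; exact e)
  have hyn : y ≠ r := fun e => notMult_of_bf hxr (x := y) (by rw [bf_symm]; exact hxy) 1 (by rw [one_smul]; exact e)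
  have seed : ∀ (w : VV), bf w r = 0 → q0 w + ℓ w ^ 2 = 1 → ∀ μ : F,
      q0 (r + μ • (w + r)) + ℓ (r + μ • (w + r)) ^ 2 = 1 := by
    intro w hw qw μ
    simp only [q0_add, q0_smul, map_add, map_smul, smul_eq_mul, bf_symm r w, hw, bf_self]
    linear_combination qr + μ ^ 2 * qw + μ ^ 2 * qr + (μ ^ 2 * ℓ w * ℓ r + μ * ℓ r * ℓ w + μ * ℓ r ^ 2 + μ ^ 2) * h2
  rcases eq_or_ne d r with rfl | hdn
  · exact qr
  obtain ⟨γ, hγ⟩ := mem_line hr.1 hxy hxr hyr hdr
  set a := bf d y / c with ha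
  set b := bf x d / c with hb
  have hak : a ∈ k := k.div_mem ((R.big r hr).val d hd hdr y hy hyr) ((R.big r hr).val x hx hxr y hy hyr)
  have hbk : b ∈ k := k.div_mem ((R.big r hr).val x hx hxr d hd hdr) ((R.big r hr).val x hx hxr y hy hyr)
  have fin : ∀ d' ∈ centres P, bf d' r = 0 → d' ≠ r → q0 d' + ℓ d' ^ 2 = 1 → ∀ δ : F, d = d' + δ • r →
      q0 d + ℓ d ^ 2 = 1 := fun d' hd' hd'r hne q δ h => by rwa [R.unique hr hd' hd hd'r hne h]
  have hne' : ∀ (w : VV), bf w r = 0 → w ≠ r → w ∈ centres P → ∀ μ : F, μ ≠ 0 → r + μ • (w + r) ≠ r := by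
    intro w _ hwn _ μ hμ e
    rw [add_eq_left, smul_eq_zero] at e
    refine hwn (funext fun i => CharTwo.add_eq_zero.1 ?_)
    simpa using congrFun (e.resolve_left hμ) i
  rcases eq_or_ne b 0 with hb0 | hb0 <;> rcases eq_or_ne a 0 with ha0 | ha0
  · exfalso
    rw [ha0, hb0, zero_smul, zero_smul, zero_add, zero_add] at hγ
    exact hdn (by rw [hγ, R.one r hr γ (hγ ▸ hd), one_smul])
  · refine fin _ (R.lift hr hx hxr hxn hak ha0) (by simp [hxr, bf_self]) (hne' x hxr hxn hx a ha0) (seed x hxr qx a)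
      (γ + 1 + a) ?_
    rw [hγ, hb0]
    linear_combination (norm := module) (-1 : F) • vadd_self ((1 + a) • r)
  · refine fin _ (R.lift hr hy hyr hyn hbk hb0) (by simp [hyr, bf_self]) (hne' y hyr hyn hy b hb0) (seed y hyr qy b)
      (γ + 1 + b) ?_
    rw [hγ, ha0]
    linear_combination (norm := module) (-1 : F) • vadd_self ((1 + b) • r)
  · haveI : CharP k 2 := CharP.subring' F 2 k.toSubring
    obtain ⟨ν, hν⟩ := exists_sqrt ((⟨b, hbk⟩ : k) / (⟨a, hak⟩ * ⟨c, (R.big r hr).val x hx hxr y hy hyr⟩))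
    have hν' : (ν : F) ^ 2 = b / (a * c) := congrArg Subtype.val hν
    have hν0 : (ν : F) ≠ 0 := fun e => by
      rw [e] at hν'
      exact div_ne_zero hb0 (mul_ne_zero ha0 hxy) (by simpa using hν'.symm)
    set X := r + a • (x + r)
    set Y := r + (ν : F) • (y + r)
    have hX := R.lift hr hx hxr hxn hak ha0
    have hY := R.lift hr hy hyr hyn ν.2 hν0
    have hXY : bf X Y = a * c * ν := by
      simp [X, Y, bf_self, bf_symm r x, bf_symm r y, hxr, hyr]; ring
    have hbeq : b = a * c * ν * ν := by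
      field_simp [mul_ne_zero ha0 hxy] at hν'
      linear_combination -hν'
    have hD := centres_step R.le hY hX
    rw [hXY] at hD
    have qX : q0 X + ℓ X ^ 2 = 1 := seed x hxr qx a
    have qY : q0 Y + ℓ Y ^ 2 = 1 := seed y hyr qy (ν : F)
    have qD : q0 (X + (a * c * ν) • Y) + ℓ (X + (a * c * ν) • Y) ^ 2 = 1 := by
      rw [q0_add, q0_smul, map_smul (bf X), map_add ℓ, map_smul ℓ, smul_eq_mul, smul_eq_mul, hXY]
      linear_combination qX + (a * c * ν) ^ 2 * qY + ((a * c * ν) ^ 2 + ℓ X * (a * c * ν) * ℓ Y) * h2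
    refine fin _ hD (by simp [X, Y, hxr, hyr, bf_self]) (fun e => ?_) qD
      (γ + (1 + a + a * c * ν + b)) ?_
    · have h := congrArg (bf x) e
      have hν1 : ν ≠ 0 := fun e' => hν0 (congrArg Subtype.val e')
      have hc0 : bf x y ≠ 0 := hxy
      simp [X, Y, c, bf_self, hxr, ha0, hc0, hν1] at h
    · rw [hγ, hbeq]
      linear_combination (norm := module) (-1 : F) • vadd_self ((1 + a + a * c * ν + a * c * ν * ν) • r)

/-- A centre outside the perp is orthogonal to a point of each line not orthogonal to it. -/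
theorem Rigid.diam {z x : VV} (hz : z ∈ centres P) (hx : x ∈ centres P) (hxr : bf x r = 0) (hne : x ≠ r)
    (hzr : bf z r ≠ 0) (he : bf z (x + r) ≠ 0) :
    ∃ μ ∈ k, μ ≠ 0 ∧ bf z (r + μ • (x + r)) = 0 := by
  have h2 := CharTwo.two_eq_zero (R := F)
  by_cases hd : bf z x = 0
  · refine ⟨1, k.one_mem, one_ne_zero, ?_⟩
    rw [one_smul, map_add, map_add, hd, zero_add, CharTwo.add_self_eq_zero]
  have hcd : bf z r ≠ bf z x := fun e => he (by rw [map_add, e, CharTwo.add_self_eq_zero])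
  obtain ⟨s, hs, -, -⟩ := uneven_point R.le R.one hr hx hz hne.symm (by rw [bf_symm, hxr]) hzr hd hcd
  set c := bf z r
  set d := bf z x
  have hs0 : s ≠ 0 := fun e => hs.1 (by rw [e, zero_smul])
  rw [smul_add, smul_smul, smul_smul, add_comm] at hs
  have hnm : ∀ γ : F, x ≠ γ • r := fun γ e => hne (by rw [e, R.one r hr γ (e ▸ hx), one_smul])
  have hl : s * c ∈ k := ((R.big r hr).par x hx hxr hnm _ (mul_ne_zero hs0 hzr)).1 ⟨_, hs⟩
  have hu := R.unique hr (R.lift hr hx hxr hne hl (mul_ne_zero hs0 hzr)) hs (by simp [hxr, bf_self])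
    (fun e => by
      rw [add_eq_left, smul_eq_zero] at e
      exact he (by rw [e.resolve_left (mul_ne_zero hs0 hzr), map_zero]))
    (δ := s * d + 1 + s * c)
    (by linear_combination (norm := module) (-1 : F) • vadd_self ((1 + s * c) • r))
  have h4 : s * d = 1 + s * c := by
    obtain ⟨i, hi⟩ := Function.ne_iff.1 hr.1
    have := congrFun hu i
    simp at this hi
    refine mul_right_cancel₀ hi ?_
    linear_combination this
  refine ⟨s * c, hl, mul_ne_zero hs0 hzr, ?_⟩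
  rw [map_add, map_smul, map_add, smul_eq_mul]
  show c + s * c * (d + c) = 0
  linear_combination c * h4 + (c + s * c * c) * h2

/-- The perp contains a centre orthogonal to `z` and not to `x₀`. -/
theorem Rigid.reach {x₀ y z : VV} (hx₀ : x₀ ∈ centres P) (hy : y ∈ centres P) (hx₀r : bf x₀ r = 0)
    (hyr : bf y r = 0) (hxy : bf x₀ y ≠ 0) (hz : z ∈ centres P) (hzr : bf z r ≠ 0) :
    ∃ x ∈ centres P, bf x r = 0 ∧ bf z x = 0 ∧ bf x x₀ ≠ 0 := by
  have hrx : bf r x₀ = 0 := by rw [bf_symm, hx₀r]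
  have fin : ∀ w ∈ centres P, bf w r = 0 → bf w x₀ ≠ 0 → bf z (w + r) ≠ 0 →
      ∃ x ∈ centres P, bf x r = 0 ∧ bf z x = 0 ∧ bf x x₀ ≠ 0 := by
    intro w hw hwr hw0 he
    have hwn : w ≠ r := fun e => hw0 (by rw [e, hrx])
    obtain ⟨μ, hμ, hμ0, h⟩ := R.diam hr hz hw hwr hwn hzr he
    refine ⟨_, R.lift hr hw hwr hwn hμ hμ0, by simp [hwr, bf_self], h, ?_⟩
    simp [hrx, hμ0, hw0]
  by_cases he : bf z (y + r) ≠ 0
  · exact fin y hy hyr (by rw [bf_symm]; exact hxy) he
  push Not at he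
  have hyn : y ≠ r := fun e => hxy (by rw [e, hx₀r])
  obtain ⟨l, hl, hl0, hl1⟩ := (R.big r hr).two
  set c := bf x₀ y
  have cand : ∀ ν ∈ k, ν ≠ 0 → bf z x₀ + bf z r + ν * c * bf z r ≠ 0 →
      ∃ x ∈ centres P, bf x r = 0 ∧ bf z x = 0 ∧ bf x x₀ ≠ 0 := by
    intro ν hν hν0 hne'
    have hu := R.lift hr hy hyr hyn hν hν0
    set u := r + ν • (y + r) with hudef
    have hxu : bf x₀ u = ν * c := by simp [hudef, hx₀r, c]
    have hw := centres_step R.le hu hx₀
    rw [hxu] at hw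
    refine fin _ hw (by simp [hudef, hx₀r, hyr, bf_self]) ?_ ?_
    · rw [map_add, LinearMap.add_apply, map_smul, LinearMap.smul_apply, bf_self, zero_add, bf_symm u x₀, hxu]
      exact mul_ne_zero (mul_ne_zero hν0 hxy) (mul_ne_zero hν0 hxy)
    · have hzu : bf z u = bf z r := by rw [hudef, map_add, map_smul, he, smul_zero, add_zero]
      rw [map_add, map_add, map_smul, hzu, smul_eq_mul]
      intro e; exact hne' (by linear_combination e)
  by_cases h1 : bf z x₀ + bf z r + 1 * c * bf z r ≠ 0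
  · exact cand 1 k.one_mem one_ne_zero h1
  push Not at h1
  refine cand l hl hl0 fun e => ?_
  have h3 : (l - 1) * (c * bf z r) = 0 := by linear_combination e - h1
  exact hl1 (sub_eq_zero.1 ((mul_eq_zero.1 h3).resolve_right (mul_ne_zero hxy hzr)))

omit R hr in
/-- No uneven triple. -/
theorem Setup.no_uneven (S : Setup P) (hone : ∀ v ∈ centres P, ∀ a : F, a • v ∈ centres P → a = 1) {u w v : VV}
    (hu : u ∈ centres P) (hw : w ∈ centres P) (hv : v ∈ centres P) (huw : u ≠ w) (h0 : bf u w = 0)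
    (hc : bf v u ≠ 0) (hd : bf v w ≠ 0) (hcd : bf v u ≠ bf v w) : False := by
  have hne : (centres P).Nonempty := ⟨u, hu⟩
  obtain ⟨s, hs, k, B⟩ := uneven_point S.le hone hu hw hv huw h0 hc hd hcd
  have hs0 : s ≠ 0 := fun e => hs.1 (by rw [e, zero_smul])
  have R : Rigid P k := ⟨S.le, hone, fun r hr => by
    obtain ⟨g, hg, e⟩ := S.transitive hne hs hr
    exact e ▸ (B.smul hs0).map S.le hg⟩
  obtain ⟨r, hr, -⟩ : ∃ r, r ∈ centres P ∧ True := ⟨u, hu, trivial⟩
  obtain ⟨e, he, f, hf, her, hfr, hef⟩ := (R.big r hr).pair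
  obtain ⟨z, hz, hrz⟩ := S.exists_nonperp hne hr.1
  have hzr : bf z r ≠ 0 := by rwa [bf_symm]
  obtain ⟨x₀, hx₀, hx₀r, hzx₀, hx₀e⟩ := R.reach hr he hf her hfr hef hz hzr
  have hli : LinearIndependent F ![r, x₀, e, z] := by
    rw [Fintype.linearIndependent_iff]
    intro c hc'
    have key : ∀ t, bf (∑ i, c i • ![r, x₀, e, z] i) t = 0 := fun t => by rw [hc', map_zero, LinearMap.zero_apply]
    have k1 := key r
    simp [Fin.sum_univ_four, bf_self, hx₀r, her, hzr] at k1
    have k2 := key x₀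
    simp [Fin.sum_univ_four, bf_self, bf_symm r x₀, hx₀r, bf_symm e x₀, hx₀e, k1] at k2
    have k3 := key e
    simp [Fin.sum_univ_four, bf_self, bf_symm r e, her, hx₀e, k1] at k3
    have k4 := key z
    simp [Fin.sum_univ_four, bf_self, hrz, k1, k2, k3] at k4
    intro i; fin_cases i <;> assumption
  let b : Module.Basis (Fin 4) F VV := basisOfLinearIndependentOfCardEqFinrank hli (by simp)
  choose σ hσ using fun t : VV => exists_sqrt (q0 t + 1)
  let ℓ : VV →ₗ[F] F := b.constr F fun i => σ (![r, x₀, e, z] i)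
  have hℓ : ∀ i, q0 (![r, x₀, e, z] i) + ℓ (![r, x₀, e, z] i) ^ 2 = 1 := fun i => by
    have : ℓ (![r, x₀, e, z] i) = σ (![r, x₀, e, z] i) := by
      have h := b.constr_basis (M' := F) F (fun i => σ (![r, x₀, e, z] i)) i
      rwa [show b i = ![r, x₀, e, z] i from congrFun (coe_basisOfLinearIndependentOfCardEqFinrank hli (by simp)) i] at h
    rw [this, hσ]
    linear_combination q0 (![r, x₀, e, z] i) * (CharTwo.two_eq_zero (R := F))
  have qr : q0 r + ℓ r ^ 2 = 1 := hℓ 0
  have qx : q0 x₀ + ℓ x₀ ^ 2 = 1 := hℓ 1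
  have qe : q0 e + ℓ e ^ 2 = 1 := hℓ 2
  have qz : q0 z + ℓ z ^ 2 = 1 := hℓ 3
  refine S.no_form hne ℓ fun d hd' => ?_
  by_cases hdr : bf d r = 0
  · exact R.local_form hr ℓ hx₀ he hx₀r her hx₀e qr qx qe hd' hdr
  have hrx₀ : bf r x₀ = 0 := by rw [bf_symm, hx₀r]
  obtain ⟨x, hx, hxr, hdx, hxx₀⟩ := R.reach hr hx₀ he hx₀r her hx₀e hd' hdr
  obtain ⟨y, hy, hyx₀, hxy, hyr⟩ := R.reach hx₀ hr hz hrx₀ hzx₀ hrz hx hxx₀
  have qxv := R.local_form hr ℓ hx₀ he hx₀r her hx₀e qr qx qe hx hxr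
  have qyv := R.local_form hx₀ ℓ hr hz hrx₀ hzx₀ hrz qx qr qz hy hyx₀
  refine R.local_form hx ℓ hr hy (by rw [bf_symm, hxr]) (by rw [bf_symm, hxy]) (by rwa [bf_symm]) qxv qr qyv hd' hdx

end Cfsg.Lib.SpFourResidual
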