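import Cfsg.Prelude.Def_Sz
import Cfsg.Agent.MitchellThree.Residual.Even.Dickson

/-!
Symplectic transvections in dimension four and characteristic two, written by their centres.
-/

set_option autoImplicit false
set_option linter.unusedSectionVars false
set_option linter.unusedSimpArgs false

namespace Cfsg.Lib.SpFourResidual

open Matrix Cfsg.Lie

universe u

variable {F : Type u} [Field F]

local notation "MM" => Matrix (Fin 4) (Fin 4) F
local notation "GG" => GL (Fin 4) F
local notation "VV" => (Fin 4 → F)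

/-- The action on columns. -/
def mv (g : GG) (z : VV) : VV := (g : MM) *ᵥ z

/-- The symplectic form. -/
def bf : VV →ₗ[F] VV →ₗ[F] F :=
  LinearMap.mk₂ F altForm4
    (fun a b c => by simp [altForm4]; ring) (fun s a b => by simp [altForm4]; ring)
    (fun a b c => by simp [altForm4]; ring) (fun s a b => by simp [altForm4]; ring)

theorem bf_def (u v : VV) : bf u v = u 0 * v 3 + u 1 * v 2 + u 2 * v 1 + u 3 * v 0 := rfl

theorem bf_symm (u v : VV) : bf u v = bf v u := by rw [bf_def, bf_def]; ring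

theorem mv_one (z : VV) : mv (1 : GG) z = z := Matrix.one_mulVec z

theorem mv_mul (g h : GG) (z : VV) : mv (g * h) z = mv g (mv h z) := (Matrix.mulVec_mulVec z _ _).symm

theorem mv_inv (g : GG) (z : VV) : mv g⁻¹ (mv g z) = z := by rw [← mv_mul, inv_mul_cancel, mv_one]

theorem mv_inv' (g : GG) (z : VV) : mv g (mv g⁻¹ z) = z := by rw [← mv_mul, mul_inv_cancel, mv_one]

theorem mv_add (g : GG) (y z : VV) : mv g (y + z) = mv g y + mv g z := Matrix.mulVec_add _ y z

theorem mv_smul (g : GG) (c : F) (z : VV) : mv g (c • z) = c • mv g z := Matrix.mulVec_smul _ c z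

theorem mv_ext {g h : GG} (e : ∀ z, mv g z = mv h z) : g = h := by
  refine Units.ext (Matrix.ext_iff_mulVec.2 e)

theorem mv_ne_zero {g : GG} {z : VV} (hz : z ≠ 0) : mv g z ≠ 0 := fun e => hz (by
  rw [← mv_inv g z, e]; exact Matrix.mulVec_zero _)

theorem mem_Sp4_iff {g : GG} : g ∈ Sp4 F ↔ ∀ y z, bf (mv g y) (mv g z) = bf y z := Iff.rfl

variable [CharP F 2]

theorem bf_self (v : VV) : bf v v = 0 := by
  rw [bf_def, show v 2 * v 1 = v 1 * v 2 by ring, show v 3 * v 0 = v 0 * v 3 by ring]
  linear_combination (v 0 * v 3 + v 1 * v 2) * (CharTwo.two_eq_zero (R := F))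

theorem vadd_self (v : VV) : v + v = 0 := funext fun i => CharTwo.add_self_eq_zero (v i)

theorem vadd_cancel (v w : VV) : v + w + w = v := by rw [add_assoc, vadd_self, add_zero]

theorem exists_bf_one {v : VV} (hv : v ≠ 0) : ∃ z, bf z v = 1 := by
  obtain ⟨i, hi⟩ := Function.ne_iff.1 hv
  refine ⟨(v i)⁻¹ • Pi.single i.rev 1, ?_⟩
  rw [map_smul, LinearMap.smul_apply, smul_eq_mul]
  have : bf (Pi.single i.rev (1 : F)) v = v i := by
    rw [bf_def]
    fin_cases i <;> simp [Fin.rev, Pi.single_apply]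
  rw [this, inv_mul_cancel₀ hi]

/-- The transvection with centre `v`, as a matrix. -/
def tm (v : VV) : MM := 1 + vecMulVec v ![v 3, v 2, v 1, v 0]

theorem tm_mulVec (v z : VV) : tm v *ᵥ z = z + bf z v • v := by
  rw [tm, Matrix.add_mulVec, Matrix.one_mulVec, vecMulVec_mulVec]
  ext i
  simp only [Pi.add_apply, Pi.smul_apply, op_smul_eq_mul, smul_eq_mul, bf_def, dotProduct, Fin.sum_univ_four]
  simp
  ring

theorem tm_sq (v : VV) : tm v * tm v = 1 := by
  refine Matrix.ext_iff_mulVec.2 fun z => ?_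
  rw [← Matrix.mulVec_mulVec, tm_mulVec, tm_mulVec, map_add, map_smul, LinearMap.add_apply, LinearMap.smul_apply,
    bf_self, smul_zero, add_zero, add_assoc, vadd_self, add_zero, Matrix.one_mulVec]

/-- The transvection with centre `v`. -/
def tv (v : VV) : GG := ⟨tm v, tm v, tm_sq v, tm_sq v⟩

theorem mv_tv (v z : VV) : mv (tv v) z = z + bf z v • v := tm_mulVec v z

theorem tv_sq (v : VV) : tv v * tv v = (1 : GG) := Units.ext (tm_sq v)

theorem tv_inv (v : VV) : (tv v : GG)⁻¹ = tv v := inv_eq_of_mul_eq_one_right (tv_sq v)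

theorem tv_zero : tv (0 : VV) = 1 := mv_ext fun z => by rw [mv_tv, smul_zero, add_zero, mv_one]

theorem tv_mem (v : VV) : tv v ∈ Sp4 F := by
  refine mem_Sp4_iff.2 fun y z => ?_
  rw [mv_tv, mv_tv]
  simp only [map_add, map_smul, LinearMap.add_apply, LinearMap.smul_apply, smul_eq_mul, bf_self v, bf_symm v z]
  linear_combination (bf y v * bf z v) * (CharTwo.two_eq_zero (R := F))

theorem tv_inj {v w : VV} (h : tv v = tv w) : v = w := by
  have key : ∀ z, bf z v • v = bf z w • w := fun z => add_left_cancel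
    ((mv_tv v z).symm.trans ((congrArg (fun g => mv g z) h).trans (mv_tv w z)))
  rcases eq_or_ne v 0 with rfl | hv
  · by_contra hw
    obtain ⟨z, hz⟩ := exists_bf_one (Ne.symm hw)
    have := key z
    rw [hz, one_smul, smul_zero] at this
    exact hw this
  obtain ⟨z, hz⟩ := exists_bf_one hv
  have hvw := key z
  rw [hz, one_smul] at hvw
  set c := bf z w
  have hw : w ≠ 0 := fun e => hv (by rw [hvw, e, smul_zero])
  obtain ⟨y, hy⟩ := exists_bf_one hw
  have h2 := key y
  rw [hvw, map_smul, smul_eq_mul, hy, mul_one, smul_smul] at h2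
  have hc : c * c = 1 := by
    obtain ⟨i, hi⟩ := Function.ne_iff.1 hw
    have := congrFun h2 i
    simp only [Pi.smul_apply, smul_eq_mul, one_mul] at this
    exact mul_right_cancel₀ hi (by rw [this, one_mul])
  have : c = 1 := CharTwo.sq_inj.1 (by rw [pow_two, hc, one_pow])
  rw [hvw, this, one_smul]

theorem tv_ne_one {v : VV} (hv : v ≠ 0) : tv v ≠ (1 : GG) := fun h => hv (tv_inj (h.trans tv_zero.symm))

theorem tv_conj {g : GG} (hg : g ∈ Sp4 F) (v : VV) : g * tv v * g⁻¹ = tv (mv g v) := by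
  refine mv_ext fun z => ?_
  rw [mv_mul, mv_mul, mv_tv, mv_tv, mv_add, mv_smul, mv_inv']
  congr 2
  conv_rhs => rw [← mv_inv' g z, mem_Sp4_iff.1 hg]

theorem exists_sqrt [Finite F] (a : F) : ∃ s : F, s ^ 2 = a :=
  (Finite.injective_iff_surjective.1 (fun x y h => CharTwo.sq_inj.1 h : Function.Injective fun x : F => x ^ 2)) a

theorem mem_of_sq [Finite F] {k : Subfield F} {a : F} (h : a ^ 2 ∈ k) : a ∈ k := by
  haveI : CharP k 2 := CharP.subring' F 2 k.toSubring
  obtain ⟨r, hr⟩ := exists_sqrt (⟨a ^ 2, h⟩ : k)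
  rw [← CharTwo.sq_inj.1 (congrArg Subtype.val hr)]
  exact r.2

/-- Every symplectic transvection has a centre. -/
theorem exists_centre [Finite F] {g : GG} (hg : g ∈ Sp4 F) (h1 : g ≠ 1) {x φ : VV}
    (hx : (g : MM) = 1 + vecMulVec x φ) : ∃ v, v ≠ 0 ∧ g = tv v := by
  have hgz : ∀ z, mv g z = z + (φ ⬝ᵥ z) • x := fun z => by
    rw [mv, hx, Matrix.add_mulVec, Matrix.one_mulVec, vecMulVec_mulVec, op_smul_eq_smul]
  have hx0 : x ≠ 0 := fun e => h1 (mv_ext fun z => by rw [hgz, e, smul_zero, add_zero, mv_one])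
  have hB : ∀ y z, (φ ⬝ᵥ y) * bf x z = (φ ⬝ᵥ z) * bf x y := fun y z => by
    have := mem_Sp4_iff.1 hg y z
    rw [hgz, hgz] at this
    simp only [map_add, map_smul, LinearMap.add_apply, LinearMap.smul_apply, smul_eq_mul, bf_self x,
      bf_symm y x, mul_zero, add_zero] at this
    linear_combination this - (φ ⬝ᵥ z * bf x y) * (CharTwo.two_eq_zero (R := F))
  obtain ⟨y, hy⟩ := exists_bf_one hx0
  obtain ⟨s, hs⟩ := exists_sqrt (φ ⬝ᵥ y)
  have hz : g = tv (s • x) := mv_ext fun z => by
    have := hB y z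
    rw [bf_symm x y, hy, mul_one] at this
    rw [hgz, mv_tv, ← this, ← hs, map_smul, smul_smul, smul_eq_mul, bf_symm z x]
    ring_nf
  refine ⟨s • x, fun e => h1 (by rw [hz, e, tv_zero]), hz⟩

/-- Coordinates with respect to two orthogonal hyperbolic pairs. -/
theorem quad_expand {p q r s : VV} (hpq : bf p q = 1) (hrs : bf r s = 1) (h1 : bf p r = 0) (h2 : bf p s = 0)
    (h3 : bf q r = 0) (h4 : bf q s = 0) (z : VV) :
    z = bf z q • p + bf z p • q + bf z s • r + bf z r • s := by
  let L : VV →ₗ[F] VV := (bf.flip q).smulRight p + (bf.flip p).smulRight q + (bf.flip s).smulRight r +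
    (bf.flip r).smulRight s
  have hfix : ∀ w, w = p ∨ w = q ∨ w = r ∨ w = s → L w = w := by
    intro w hw
    simp only [L, LinearMap.add_apply, LinearMap.smulRight_apply, LinearMap.flip_apply]
    rcases hw with rfl | rfl | rfl | rfl
    · simp [hpq, bf_self, h1, h2]
    · simp [bf_symm w p, hpq, bf_self, h3, h4]
    · simp [bf_symm w p, bf_symm w q, hrs, bf_self, h1, h3]
    · simp [bf_symm w p, bf_symm w q, bf_symm w r, hrs, bf_self, h2, h4]
  have hli : LinearIndependent F ![p, q, r, s] := by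
    rw [Fintype.linearIndependent_iff]
    intro c hc
    have key : ∀ w, bf (∑ i, c i • ![p, q, r, s] i) w = 0 := fun w => by rw [hc, map_zero, LinearMap.zero_apply]
    have e1 := key q; have e2 := key p; have e3 := key s; have e4 := key r
    simp [Fin.sum_univ_four, hpq, bf_self, bf_symm r q, bf_symm s q, h3, h4] at e1
    simp [Fin.sum_univ_four, bf_self, bf_symm q p, hpq, bf_symm r p, bf_symm s p, h1, h2] at e2
    simp [Fin.sum_univ_four, bf_self, hrs, h2, h4] at e3
    simp [Fin.sum_univ_four, bf_self, bf_symm s r, hrs, h1, h3] at e4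
    intro i; fin_cases i <;> assumption
  have htop : Submodule.span F (Set.range ![p, q, r, s]) = ⊤ :=
    hli.span_eq_top_of_card_eq_finrank (by simp)
  have : L = LinearMap.id := LinearMap.ext_on_range htop fun i => by
    fin_cases i
    · exact hfix p (Or.inl rfl)
    · exact hfix q (Or.inr (Or.inl rfl))
    · exact hfix r (Or.inr (Or.inr (Or.inl rfl)))
    · exact hfix s (Or.inr (Or.inr (Or.inr rfl)))
  have := LinearMap.congr_fun this z
  simpa [L] using this.symm

/-- Centres of the transvections of a subgroup. -/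
def centres (P : Subgroup GG) : Set VV := {v | v ≠ 0 ∧ tv v ∈ P}

end Cfsg.Lib.SpFourResidual
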