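import Cfsg.Agent.SpFourResidual.Transv.Setup

/-!
If all values of the form on the centres are zero or one the group acts on six ovoids of the space over two elements,
transvections as transpositions.
-/

set_option autoImplicit false
set_option linter.unusedSectionVars false
set_option linter.unusedSimpArgs false

namespace Cfsg.Lib.SpFourResidual

open Matrix Cfsg.Lie

universe u

variable {F : Type u} [Field F]

local notation "GG" => GL (Fin 4) F
local notation "VV" => (Fin 4 → F)
local notation "XX" => (Fin 4 → ZMod 2)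

/-- The six ovoids by the binary codes of their points. -/
def ovoidCodes : Fin 6 → List ℕ :=
  ![[1, 8, 11, 13, 15], [1, 9, 10, 12, 14], [2, 4, 7, 14, 15], [2, 5, 6, 12, 13], [3, 4, 6, 10, 11], [3, 5, 7, 8, 9]]

/-- Membership in an ovoid. -/
def inOvoid (i : Fin 6) (a : Fin 4 → ZMod 2) : Bool :=
  (ovoidCodes i).contains ((a 0).val * 8 + (a 1).val * 4 + (a 2).val * 2 + (a 3).val)

/-- The transvection over two elements. -/
def tbin (a z : Fin 4 → ZMod 2) : Fin 4 → ZMod 2 := z + altForm4 z a • a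

set_option maxRecDepth 40000 in
set_option maxHeartbeats 4000000 in
theorem tbin_two_points : ∀ a : XX, a ≠ 0 → ∃ i j : Fin 6, i ≠ j ∧
    ∀ (k : Fin 6) (z : XX), inOvoid k (tbin a z) = inOvoid (Equiv.swap i j k) z := by decide +kernel

theorem tbin_invol : ∀ a z : XX, tbin a (tbin a z) = z := by decide +kernel

theorem altForm4_sep : ∀ a b : XX, a ≠ b → ∃ z : XX, altForm4 a z ≠ altForm4 b z := by decide +kernel

theorem inOvoid_inj : ∀ i j : Fin 6, (∀ z : XX, inOvoid i z = inOvoid j z) → i = j := by decide +kernel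

theorem image_mv_mul (g h : GG) (A : Set VV) : mv (g * h) '' A = mv g '' (mv h '' A) := by
  rw [Set.image_image]; exact Set.image_congr' fun z => mv_mul g h z

variable [CharP F 2] [Finite F] {P : Subgroup (GL (Fin 4) F)}

set_option maxHeartbeats 1600000 in
/-- The form on the centres takes a value other than zero and one. -/
theorem Setup.exists_value (S : Setup P) (hne : (centres P).Nonempty) :
    ∃ u ∈ centres P, ∃ v ∈ centres P, bf u v ≠ 0 ∧ bf u v ≠ 1 := by
  by_contra hc
  push Not at hc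
  set R := AddSubgroup.closure (centres P) with hR
  let f : ZMod 2 →+* F := ZMod.castHom dvd_rfl F
  have hf01 : ∀ c : F, (c = 0 ∨ c = 1) → ∃ z : ZMod 2, f z = c := fun c h => by
    rcases h with rfl | rfl
    · exact ⟨0, map_zero f⟩
    · exact ⟨1, map_one f⟩
  have hval : ∀ y ∈ R, ∀ z ∈ R, bf y z = 0 ∨ bf y z = 1 := by
    have hadd : ∀ {a b : F}, (a = 0 ∨ a = 1) → (b = 0 ∨ b = 1) → (a + b = 0 ∨ a + b = 1) := by
      rintro a b (rfl | rfl) (rfl | rfl) <;> simp [CharTwo.add_self_eq_zero]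
    have h1 : ∀ y ∈ centres P, ∀ z ∈ R, bf y z = 0 ∨ bf y z = 1 := fun y hy z hz => by
      induction hz using AddSubgroup.closure_induction with
      | mem x hx => exact or_iff_not_imp_left.2 (hc y hy x hx)
      | zero => simp
      | add a b _ _ ha hb => rw [map_add]; exact hadd ha hb
      | neg a _ ha => rwa [map_neg, CharTwo.neg_eq]
    intro y hy z hz
    induction hy using AddSubgroup.closure_induction with
    | mem x hx => exact h1 x hx z hz
    | zero => simp
    | add a b _ _ ha hb => rw [map_add, LinearMap.add_apply]; exact hadd ha hb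
    | neg a _ ha => rwa [map_neg, LinearMap.neg_apply, CharTwo.neg_eq]
  have hsm : ∀ y ∈ R, ∀ c : F, (c = 0 ∨ c = 1) → c • y ∈ R := by
    rintro y hy c (rfl | rfl)
    · rw [zero_smul]; exact R.zero_mem
    · rwa [one_smul]
  -- two hyperbolic pairs
  obtain ⟨p, hp⟩ := hne
  obtain ⟨q, hq, hpq⟩ := S.exists_nonperp ⟨p, hp⟩ hp.1
  have hpq1 := hc p hp q hq hpq
  have hpR : p ∈ R := AddSubgroup.subset_closure hp
  have hqR : q ∈ R := AddSubgroup.subset_closure hq
  let π : VV → VV := fun z => z + bf z q • p + bf z p • q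
  have hπR : ∀ z ∈ R, π z ∈ R := fun z hz =>
    R.add_mem (R.add_mem hz (hsm p hpR _ (hval z hz q hqR))) (hsm q hqR _ (hval z hz p hpR))
  have hπp : ∀ z, bf p (π z) = 0 ∧ bf q (π z) = 0 := fun z => by
    simp only [π, map_add, map_smul, smul_eq_mul, bf_self, bf_symm q p, hpq1, bf_symm z p, bf_symm z q]
    constructor <;> simp [CharTwo.add_self_eq_zero]
  obtain ⟨d, hd, hdπ⟩ : ∃ d ∈ centres P, π d ≠ 0 := by
    by_contra hno
    push Not at hno
    obtain ⟨v, hv0, hvp, hvq⟩ : ∃ v : VV, v ≠ 0 ∧ bf p v = 0 ∧ bf q v = 0 := by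
      let L : VV →ₗ[F] (Fin 2 → F) := LinearMap.pi ![bf p, bf q]
      obtain ⟨v, hv, hv0⟩ := (Submodule.ne_bot_iff _).1 (show L.ker ≠ ⊥ from fun e => by
        have := LinearMap.finrank_le_finrank_of_injective (LinearMap.ker_eq_bot.1 e)
        simp at this)
      exact ⟨v, hv0, congrFun hv 0, congrFun hv 1⟩
    obtain ⟨z, hz, hzv⟩ := S.exists_nonperp ⟨p, hp⟩ hv0
    have h0 := congrArg (bf v) (hno z hz)
    simp only [π, map_add, map_smul, smul_eq_mul, map_zero, bf_symm v p, bf_symm v q, hvp, hvq, mul_zero,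
      add_zero] at h0
    exact hzv h0
  obtain ⟨e, he, hde⟩ := S.exists_nonperp ⟨p, hp⟩ hdπ
  set r := π d with hr
  set s := π e with hs
  have hrR : r ∈ R := hπR d (AddSubgroup.subset_closure hd)
  have hsR : s ∈ R := hπR e (AddSubgroup.subset_closure he)
  have hrs : bf r s = 1 := by
    have h1 : bf r s = bf r e := by
      simp only [hs, π, map_add, map_smul, smul_eq_mul]
      rw [bf_symm r p, bf_symm r q, (hπp d).1, (hπp d).2]
      simp
    rw [h1]
    exact (hval r hrR e (AddSubgroup.subset_closure he)).resolve_left hde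
  have hexp := quad_expand hpq1 hrs (hπp d).1 (hπp e).1 (hπp d).2 (hπp e).2
  have pr : bf p r = 0 := (hπp d).1
  have qr : bf q r = 0 := (hπp d).2
  have ps : bf p s = 0 := (hπp e).1
  have qs : bf q s = 0 := (hπp e).2
  -- binary coordinates
  let ι : XX → VV := fun a => f (a 0) • p + f (a 3) • q + (f (a 1) • r + f (a 2) • s)
  have hιbf : ∀ a b, bf (ι a) (ι b) = f (altForm4 a b) := fun a b => by
    simp only [ι, map_add, map_smul, LinearMap.add_apply, LinearMap.smul_apply, smul_eq_mul, bf_self, hpq1, hrs,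
      bf_symm q p, bf_symm s r, bf_symm r p, bf_symm s p, bf_symm r q, bf_symm s q, pr, qr, ps, qs, altForm4, map_mul]
    ring
  have hιinj : Function.Injective ι := fun a b h => by
    by_contra hab
    obtain ⟨z, hz⟩ := altForm4_sep a b hab
    exact hz (f.injective (by rw [← hιbf, ← hιbf, h]))
  have hιt : ∀ a z, mv (tv (ι a)) (ι z) = ι (tbin a z) := fun a z => by
    rw [mv_tv, hιbf]
    simp only [ι, tbin, Pi.add_apply, Pi.smul_apply, smul_eq_mul, map_add, map_mul]
    module
  have hιs : ∀ y ∈ R, ∃ a, ι a = y := fun y hy => by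
    obtain ⟨a0, h0⟩ := hf01 _ (hval y hy q hqR)
    obtain ⟨a3, h3⟩ := hf01 _ (hval y hy p hpR)
    obtain ⟨a1, h1⟩ := hf01 _ (hval y hy s hsR)
    obtain ⟨a2, h2⟩ := hf01 _ (hval y hy r hrR)
    refine ⟨![a0, a1, a2, a3], ?_⟩
    conv_rhs => rw [hexp y]
    simp only [ι, Matrix.cons_val_zero, Matrix.cons_val_one, Matrix.cons_val, h0, h1, h2, h3]
    abel
  -- the action on the ovoids
  let O : Fin 6 → Set VV := fun i => ι '' {a | inOvoid i a = true}
  have hOinj : Function.Injective O := fun i j h => inOvoid_inj i j fun z => by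
    have := Set.ext_iff.1 (Set.image_injective.2 hιinj h) z
    simp only [Set.mem_setOf_eq] at this
    exact Bool.eq_iff_iff.2 this
  have hswap : ∀ v ∈ centres P, ∃ i j : Fin 6, i ≠ j ∧ ∀ k, mv (tv v) '' O k = O (Equiv.swap i j k) := fun v hv => by
    obtain ⟨a, rfl⟩ := hιs v (AddSubgroup.subset_closure hv)
    obtain ⟨i, j, hij, hk⟩ := tbin_two_points a (fun e' => hv.1 (by simp [e', ι]))
    refine ⟨i, j, hij, fun k => ?_⟩
    ext y
    constructor
    · rintro ⟨_, ⟨z, hz, rfl⟩, rfl⟩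
      refine ⟨_, ?_, (hιt a z).symm⟩
      show inOvoid _ _ = true
      rw [← hk, tbin_invol]; exact hz
    · rintro ⟨z, hz, rfl⟩
      refine ⟨ι (tbin a z), ⟨_, ?_, rfl⟩, by rw [hιt, tbin_invol]⟩
      show inOvoid _ _ = true
      rw [hk]; exact hz
  have hperm : ∀ g ∈ P, ∃ σ : Equiv.Perm (Fin 6), ∀ k, mv g '' O k = O (σ k) := by
    intro g hg
    rw [← S.gen ⟨p, hp⟩] at hg
    induction hg using Subgroup.closure_induction_left with
    | one => exact ⟨1, fun k => by simp [mv_one]⟩
    | mul_left x hx y _ ih =>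
      obtain ⟨v, hv, rfl⟩ := hx
      obtain ⟨σ, hσ⟩ := ih
      obtain ⟨i, j, -, h⟩ := hswap v hv
      refine ⟨Equiv.swap i j * σ, fun k => ?_⟩
      rw [image_mv_mul, hσ, h, Equiv.Perm.mul_apply]
    | inv_mul_cancel x hx y _ ih =>
      obtain ⟨v, hv, rfl⟩ := hx
      obtain ⟨σ, hσ⟩ := ih
      obtain ⟨i, j, -, h⟩ := hswap v hv
      refine ⟨Equiv.swap i j * σ, fun k => ?_⟩
      rw [tv_inv, image_mv_mul, hσ, h, Equiv.Perm.mul_apply]
  choose σ hσ using fun g : P => hperm g g.2
  let χ : P →* Equiv.Perm (Fin 6) :=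
    { toFun := σ
      map_one' := Equiv.ext fun k => hOinj (by
        rw [← hσ, Equiv.Perm.one_apply, OneMemClass.coe_one, show mv (1 : GG) = id from funext mv_one, Set.image_id])
      map_mul' := fun g h => Equiv.ext fun k => hOinj (by
        rw [Equiv.Perm.mul_apply, ← hσ, ← hσ, ← hσ, Subgroup.coe_mul, image_mv_mul]) }
  haveI := S.simple
  let ψ : P →* ℤˣ := Equiv.Perm.sign.comp χ
  rcases IsSimpleGroup.eq_bot_or_eq_top_of_normal ψ.ker inferInstance with e' | e'
  · refine S.nonab ⟨⟨fun a b => (MonoidHom.ker_eq_bot_iff ψ).1 e' ?_⟩⟩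
    rw [map_mul, map_mul, mul_comm]
  · obtain ⟨i, j, hij, h⟩ := hswap p hp
    have hχ : χ ⟨tv p, hp.2⟩ = Equiv.swap i j := Equiv.ext fun k => hOinj ((hσ ⟨tv p, hp.2⟩ k).symm.trans (h k))
    have h1 : ψ ⟨tv p, hp.2⟩ = 1 := MonoidHom.mem_ker.1 (e' ▸ Subgroup.mem_top _)
    simp only [ψ, MonoidHom.comp_apply, hχ, Equiv.Perm.sign_swap hij] at h1
    exact absurd h1 (by decide)

end Cfsg.Lib.SpFourResidual
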