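import Cfsg.Agent.SpFourResidual.Transv.Setup
import Cfsg.Agent.Classical.Symp.Matrix

/-!
If a centre carries two parameters the group is the symplectic group over a subfield.
-/

set_option autoImplicit false
set_option linter.unusedSectionVars false
set_option linter.unusedSimpArgs false

namespace Cfsg.Lib.SpFourResidual

open Matrix Cfsg.Lie Cfsg.Lib.RootSub
open scoped MatrixGroups

universe u

variable {F : Type u} [Field F] [Finite F] [CharP F 2] {P : Subgroup (GL (Fin 4) F)}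

local notation "GG" => GL (Fin 4) F
local notation "VV" => (Fin 4 → F)

/-- The parameters of a centre form the subfield `k`. -/
def ParamsEq (P : Subgroup (GL (Fin 4) F)) (k : Subfield F) (v : Fin 4 → F) : Prop :=
  ∀ l : F, l ≠ 0 → (l • v ∈ centres P ↔ l ∈ k)

theorem ParamsEq.unique {k k' : Subfield F} {v : VV} (h : ParamsEq P k v) (h' : ParamsEq P k' v) : k = k' := by
  ext l
  rcases eq_or_ne l 0 with rfl | hl
  · simp
  · rw [← h l hl, h' l hl]

theorem pair_params (hle : P ≤ Sp4 F) {u z : VV} (hu : u ∈ centres P) (hz : z ∈ centres P) (hne : bf u z ≠ 0)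
    {a : F} (ha : a • u ∈ centres P) (ha1 : a ≠ 1) :
    ∃ k, bf u z ∈ k ∧ ParamsEq P k u ∧ ParamsEq P k z := by
  set c := bf u z
  have hxy : bf (c⁻¹ • z) u = 1 := by
    rw [map_smul, LinearMap.smul_apply, smul_eq_mul, bf_symm]; exact inv_mul_cancel₀ hne
  let E : Set (Fin 2 → F) := {p | pvec (c⁻¹ • z) u p ∈ centres P}
  have e1 : ∀ l : F, pvec (c⁻¹ • z) u (l • ![0, 1]) = l • u := fun l => by simp [pvec]
  have e2 : ∀ l : F, pvec (c⁻¹ • z) u (l • ![c, 0]) = l • z := fun l => by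
    simp [pvec, smul_smul, mul_assoc, mul_inv_cancel₀ hne]
  have m1 : ∀ l : F, l • (![0, 1] : Fin 2 → F) ∈ E ↔ l • u ∈ centres P := fun l => by
    show pvec (c⁻¹ • z) u _ ∈ centres P ↔ _; rw [e1]
  have m2 : ∀ l : F, l • (![c, 0] : Fin 2 → F) ∈ E ↔ l • z ∈ centres P := fun l => by
    show pvec (c⁻¹ • z) u _ ∈ centres P ↔ _; rw [e2]
  obtain ⟨k, hk, hku, hkz⟩ := plane_pair (P.comap (emb hxy)) E
    (fun g hg p hp => by show pvec _ _ _ ∈ centres P; rw [← emb_pvec hxy]; exact centres_map hle hg hp)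
    (fun p hp => by rw [Subgroup.mem_comap, emb_tr2]; exact hp.2)
    (fun h => h.1 (by simp [pvec]))
    (e := ![0, 1]) (f := ![c, 0]) (by simpa using (m1 1).2 (by rwa [one_smul]))
    (by simpa using (m2 1).2 (by rwa [one_smul])) ((m1 a).2 ha) ha1 (by simp [det2]; exact hne)
  refine ⟨k, by simpa [det2] using hk, fun l hl => (m1 l).symm.trans (hku l hl),
    fun l hl => (m2 l).symm.trans (hkz l hl)⟩

theorem Setup.exists_params (S : Setup P) {u : VV} (hu : u ∈ centres P) {a : F} (ha : a • u ∈ centres P)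
    (ha1 : a ≠ 1) :
    ∃ k : Subfield F, (∃ c ∈ k, c ≠ 0 ∧ c ≠ 1) ∧ (∀ v ∈ centres P, ParamsEq P k v) ∧
      ∀ v ∈ centres P, ∀ w ∈ centres P, bf v w ∈ k := by
  obtain ⟨z, hz, huz⟩ := S.exists_nonperp ⟨u, hu⟩ hu.1
  obtain ⟨k, -, hku, -⟩ := pair_params S.le hu hz huz ha ha1
  have ha0 : a ≠ 0 := fun e => ha.1 (by rw [e, zero_smul])
  have hak : a ∈ k := (hku a ha0).1 ha
  have hall : ∀ v ∈ centres P, ParamsEq P k v := fun v hv l hl => by
    obtain ⟨g, hg, e⟩ := S.transitive ⟨u, hu⟩ hu hv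
    rw [← hku l hl, ← e, ← mv_smul]
    refine ⟨fun h => ?_, fun h => centres_map S.le hg h⟩
    have := centres_map S.le (P.inv_mem hg) h
    rwa [mv_inv] at this
  refine ⟨k, ⟨a, hak, ha0, ha1⟩, hall, fun v hv w hw => ?_⟩
  rcases eq_or_ne (bf v w) 0 with h | h
  · rw [h]; exact k.zero_mem
  obtain ⟨k', hk', hv', -⟩ := pair_params S.le hv hw h ((hall v hv a ha0).2 hak) ha1
  rwa [(hall v hv).unique hv']

/-- The correspondence of indices. -/
def idx : Fin 2 ⊕ Fin 2 → Fin 4 := Sum.elim ![0, 1] ![3, 2]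

set_option maxHeartbeats 3200000 in
theorem Setup.sp_of_double (S : Setup P) {u : VV} (hu : u ∈ centres P) {a : F} (ha : a • u ∈ centres P)
    (ha1 : a ≠ 1) :
    ∃ h ∈ Sp4 F, ∃ k : Subfield F, ∀ g : GG, g ∈ P ↔
      (g ∈ Sp4 F ∧ ∀ i j, ((h * g * h⁻¹ : GG) : Matrix (Fin 4) (Fin 4) F) i j ∈ k) := by
  obtain ⟨k, ⟨σ, hσk, hσ0, hσ1⟩, hpar, hval⟩ := S.exists_params hu ha ha1
  have hne : (centres P).Nonempty := ⟨u, hu⟩
  have h2 := CharTwo.two_eq_zero (R := F)
  have hsm : ∀ v ∈ centres P, ∀ l ∈ k, l ≠ 0 → l • v ∈ centres P := fun v hv l hl hl0 => (hpar v hv l hl0).2 hl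
  have hadd : ∀ v ∈ centres P, ∀ w ∈ centres P, bf v w ≠ 0 → v + w ∈ centres P := by
    intro v hv w hw h
    haveI : CharP k 2 := CharP.subring' F 2 k.toSubring
    obtain ⟨m, hm⟩ := exists_sqrt ((⟨bf v w, hval v hv w hw⟩ : k)⁻¹)
    have hm' : (m : F) ^ 2 = (bf v w)⁻¹ := congrArg Subtype.val hm
    have hm0 : (m : F) ≠ 0 := fun e => h (by rw [e] at hm'; simpa using hm'.symm)
    have := centres_step S.le (hsm w hw m m.2 hm0) hv
    rwa [map_smul, smul_eq_mul, smul_smul,
      show (m : F) * bf v w * m = (m : F) ^ 2 * bf v w by ring, hm', inv_mul_cancel₀ h, one_smul] at this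
  -- a hyperbolic line
  obtain ⟨z, hz, huz⟩ := S.exists_nonperp hne hu.1
  set q := (bf u z)⁻¹ • z with hqdef
  have hq : q ∈ centres P := hsm z hz _ (k.inv_mem (hval u hu z hz)) (inv_ne_zero huz)
  have huq : bf u q = 1 := by rw [hqdef, map_smul, smul_eq_mul, inv_mul_cancel₀ huz]
  have hqu : bf q u = 1 := by rw [bf_symm, huq]
  have hplane : ∀ α ∈ k, ∀ β ∈ k, (α ≠ 0 ∨ β ≠ 0) → α • u + β • q ∈ centres P := by
    intro α hα β hβ h
    rcases eq_or_ne α 0 with rfl | hα0
    · rw [zero_smul, zero_add]; exact hsm q hq β hβ (h.resolve_left (by simp))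
    rcases eq_or_ne β 0 with rfl | hβ0
    · rw [zero_smul, add_zero]; exact hsm u hu α hα hα0
    exact hadd _ (hsm u hu α hα hα0) _ (hsm q hq β hβ hβ0) (by simp [huq, hα0, hβ0])
  let pl : VV → VV := fun d => bf d q • u + bf d u • q
  obtain ⟨x, hx, hx1, hx2⟩ : ∃ x ∈ centres P, pl x ≠ 0 ∧ x + pl x ≠ 0 := by
    by_contra hc
    push Not at hc
    let H := Submodule.span F ({u, q} : Set VV)
    have hmem : ∀ w : VV, pl w ∈ H := fun w => H.add_mem (H.smul_mem _ (Submodule.subset_span (by simp)))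
      (H.smul_mem _ (Submodule.subset_span (by simp)))
    have hH : H = ⊤ := (S.irr H fun g hg w hw => stable_of_centres (fun d hd y hy => by
      rw [mv_tv]
      rcases eq_or_ne (pl d) 0 with e | e
      · have h1 : bf d u = 0 := by simpa [pl, bf_self, hqu] using congrArg (fun t => bf t u) e
        have h2' : bf d q = 0 := by simpa [pl, bf_self, huq] using congrArg (fun t => bf t q) e
        obtain ⟨α, β, rfl⟩ := Submodule.mem_span_pair.1 hy
        have : bf (α • u + β • q) d = 0 := by simp [bf_symm u d, bf_symm q d, h1, h2']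
        rw [this, zero_smul, add_zero]; exact hy
      · refine H.add_mem hy (H.smul_mem _ ?_)
        have := hc d hd e
        rw [← vadd_cancel d (pl d), this, zero_add]
        exact hmem d) (S.gen hne) hg w hw).resolve_left fun e => hu.1 ((Submodule.mem_bot F).1
          (e ▸ Submodule.subset_span (by simp : u ∈ ({u, q} : Set VV))))
    have hfr : Module.finrank F H ≤ 2 := by
      classical
      refine le_trans (finrank_span_le_card _) ?_
      simp only [Set.toFinset_insert, Set.toFinset_singleton]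
      exact Finset.card_le_two
    rw [hH, finrank_top] at hfr
    simp at hfr
  set a₁ := bf x q
  set b₁ := bf x u
  have ha₁ : a₁ ∈ k := hval x hx q hq
  have hb₁ : b₁ ∈ k := hval x hx u hu
  have hab₁ : a₁ ≠ 0 ∨ b₁ ≠ 0 := by
    by_contra hc; push Not at hc
    exact hx1 (show a₁ • u + b₁ • q = 0 by rw [hc.1, hc.2, zero_smul, zero_smul, add_zero])
  -- moving the plane part of a centre
  have spread : ∀ (w : VV), bf u w = 0 → bf q w = 0 → ∀ a b : F, a ∈ k → b ∈ k → (a ≠ 0 ∨ b ≠ 0) →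
      a • u + b • q + w ∈ centres P → ∀ a' ∈ k, ∀ b' ∈ k, (a' ≠ 0 ∨ b' ≠ 0) →
        a' • u + b' • q + w ∈ centres P := by
    intro w hwu hwq a b hak hbk hab hd
    have one : ∀ (a b : F), a • u + b • q + w ∈ centres P → a ∈ k → b ∈ k → ∀ a' ∈ k, ∀ b' ∈ k,
        a * b' + b * a' ≠ 0 → a' • u + b' • q + w ∈ centres P := by
      intro a b hd hak hbk a' ha' b' hb' hne'
      have hp' := hplane (a + a') (k.add_mem hak ha') (b + b') (k.add_mem hbk hb') (by
        by_contra hc; push Not at hc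
        rw [← CharTwo.add_eq_zero.1 hc.1, ← CharTwo.add_eq_zero.1 hc.2] at hne'
        exact hne' (by linear_combination (a * b) * h2))
      have := hadd _ hd _ hp' (fun e => hne' (by
        simp [map_add, map_smul, bf_self, huq, hqu, bf_symm w u, bf_symm w q, hwu, hwq] at e
        linear_combination e - (a * b) * h2))
      convert this using 1
      linear_combination (norm := module) vadd_self ((-1 : F) • (a • u + b • q))
    intro a' ha' b' hb' hab'
    by_cases h : a * b' + b * a' ≠ 0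
    · exact one a b hd hak hbk a' ha' b' hb' h
    push Not at h
    obtain ⟨a'', b'', hk1, hk2, h1, h2'⟩ : ∃ a'' b'' : F, a'' ∈ k ∧ b'' ∈ k ∧ a * b'' + b * a'' ≠ 0 ∧
        a'' * b' + b'' * a' ≠ 0 := by
      rcases eq_or_ne a 0 with rfl | ha0
      · have hb0 : b ≠ 0 := hab.resolve_left (by simp)
        have ha'0 : a' = 0 := by simpa [hb0] using h
        exact ⟨1, 0, k.one_mem, k.zero_mem, by simpa using hb0, by simpa using hab'.resolve_left (by simp [ha'0])⟩
      · refine ⟨0, 1, k.zero_mem, k.one_mem, by simpa using ha0, ?_⟩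
        intro e
        simp at e
        rw [e, mul_zero, add_zero, mul_eq_zero] at h
        exact hab'.elim (fun h' => h' e) fun h' => h' (h.resolve_left ha0)
    exact one a'' b'' (one a b hd hak hbk a'' hk1 b'' hk2 h1) hk1 hk2 a' ha' b' hb' h2'
  set r := x + pl x with hr
  have hru : bf u r = 0 := by
    simp [hr, pl, bf_self, huq, bf_symm u x, CharTwo.add_self_eq_zero]
  have hrq : bf q r = 0 := by
    simp [hr, pl, bf_self, hqu, bf_symm q x, CharTwo.add_self_eq_zero]
  have hxr : x = a₁ • u + b₁ • q + r := by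
    simp only [hr, pl]
    linear_combination (norm := module) (-1 : F) • vadd_self (a₁ • u + b₁ • q)
  have hplus : ∀ α ∈ k, ∀ β ∈ k, (α ≠ 0 ∨ β ≠ 0) → α • u + β • q + r ∈ centres P :=
    spread r hru hrq a₁ b₁ ha₁ hb₁ hab₁ (hxr ▸ hx)
  -- the second line
  obtain ⟨d, hd, hrd⟩ := S.exists_nonperp hne hx2
  have hrdk : bf r d ∈ k := by
    simp only [hr, pl, map_add, map_smul, LinearMap.add_apply, LinearMap.smul_apply, smul_eq_mul]
    exact k.add_mem (hval x hx d hd) (k.add_mem (k.mul_mem ha₁ (hval u hu d hd)) (k.mul_mem hb₁ (hval q hq d hd)))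
  obtain ⟨y, hy, hy1, hry, hryk⟩ : ∃ y ∈ centres P, pl y ≠ 0 ∧ bf r y ≠ 0 ∧ bf r y ∈ k := by
    by_cases h : pl d = 0
    · have h1 : bf d u = 0 := by simpa [pl, bf_self, hqu] using congrArg (fun t => bf t u) h
      have h2' : bf d q = 0 := by simpa [pl, bf_self, huq] using congrArg (fun t => bf t q) h
      have hxd : bf x d = bf r d := by
        rw [hxr]; simp [bf_symm u d, bf_symm q d, h1, h2']
      have hrx : bf r x = 0 := by rw [hxr]; simp [bf_self, bf_symm r u, bf_symm r q, hru, hrq]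
      refine ⟨x + d, hadd x hx d hd (by rwa [hxd]), ?_, by rwa [map_add, hrx, zero_add],
        by rwa [map_add, hrx, zero_add]⟩
      simpa [pl, h1, h2'] using hx1
    · exact ⟨d, hd, h, hrd, hrdk⟩
  set e := bf r y
  set a₂ := bf y q
  set b₂ := bf y u
  have hab₂ : a₂ ≠ 0 ∨ b₂ ≠ 0 := by
    by_contra hc; push Not at hc
    exact hy1 (show a₂ • u + b₂ • q = 0 by rw [hc.1, hc.2, zero_smul, zero_smul, add_zero])
  set w := y + pl y with hw
  have hwu : bf u w = 0 := by simp [hw, pl, bf_self, huq, bf_symm u y, CharTwo.add_self_eq_zero]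
  have hwq : bf q w = 0 := by simp [hw, pl, bf_self, hqu, bf_symm q y, CharTwo.add_self_eq_zero]
  have hyw : y = a₂ • u + b₂ • q + w := by
    simp only [hw, pl]
    linear_combination (norm := module) (-1 : F) • vadd_self (a₂ • u + b₂ • q)
  set s := e⁻¹ • w with hs
  have hrw : bf r w = e := by simp [hw, pl, e, bf_symm r u, bf_symm r q, hru, hrq]
  have hrs : bf r s = 1 := by rw [hs, map_smul, smul_eq_mul, hrw, inv_mul_cancel₀ hry]
  have hsu : bf u s = 0 := by rw [hs, map_smul, hwu, smul_zero]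
  have hsq : bf q s = 0 := by rw [hs, map_smul, hwq, smul_zero]
  have hek : e⁻¹ ∈ k := k.inv_mem hryk
  have hlineR : ∀ α ∈ k, ∀ β ∈ k, (α ≠ 0 ∨ β ≠ 0) → ∀ μ ∈ k, μ ≠ 0 → α • u + β • q + μ • r ∈ centres P := by
    intro α hα β hβ h μ hμ hμ0
    have := hsm _ (hplus (α / μ) (k.div_mem hα hμ) (β / μ) (k.div_mem hβ hμ)
      (h.imp (fun h => div_ne_zero h hμ0) fun h => div_ne_zero h hμ0)) μ hμ hμ0
    rwa [smul_add, smul_add, smul_smul, smul_smul, mul_div_cancel₀ _ hμ0, mul_div_cancel₀ _ hμ0] at this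
  have hlineS : ∀ α ∈ k, ∀ β ∈ k, (α ≠ 0 ∨ β ≠ 0) → ∀ μ ∈ k, μ ≠ 0 → α • u + β • q + μ • s ∈ centres P := by
    intro α hα β hβ h μ hμ hμ0
    have hν : μ * e⁻¹ ∈ k := k.mul_mem hμ hek
    have hν0 : μ * e⁻¹ ≠ 0 := mul_ne_zero hμ0 (inv_ne_zero hry)
    have := hsm _ (spread w hwu hwq a₂ b₂ (hval y hy q hq) (hval y hy u hu) hab₂ (hyw ▸ hy) _ (k.div_mem hα hν) _
      (k.div_mem hβ hν) (h.imp (fun h => div_ne_zero h hν0) fun h => div_ne_zero h hν0)) _ hν hν0
    rwa [smul_add, smul_add, smul_smul, smul_smul, mul_div_cancel₀ _ hν0, mul_div_cancel₀ _ hν0, ← smul_smul] at this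
  have hboth : ∀ α ∈ k, ∀ β ∈ k, ∀ μ ∈ k, μ ≠ 0 → ∀ ν ∈ k, ν ≠ 0 →
      α • u + β • q + μ • r + ν • s ∈ centres P := by
    intro α hα β hβ μ hμ hμ0 ν hν hν0
    by_cases h : α = 0 ∧ β = 0
    · obtain ⟨rfl, rfl⟩ := h
      have := hadd _ (hlineR 1 k.one_mem 0 k.zero_mem (Or.inl one_ne_zero) μ hμ hμ0)
        _ (hlineS 1 k.one_mem 0 k.zero_mem (Or.inl one_ne_zero) ν hν hν0)
        (by simp [bf_self, hrs, hsu, bf_symm r u, hru, hμ0, hν0])
      convert this using 1
      linear_combination (norm := module) (-1 : F) • vadd_self u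
    · have h' : α ≠ 0 ∨ β ≠ 0 := by tauto
      have hσ' : 1 + σ ≠ 0 := fun e' => hσ1 (CharTwo.add_eq_zero.1 e').symm
      have hσ'k := k.add_mem k.one_mem hσk
      have := hadd _ (hlineR _ (k.mul_mem hσk hα) _ (k.mul_mem hσk hβ)
          (h'.imp (mul_ne_zero hσ0) (mul_ne_zero hσ0)) μ hμ hμ0)
        _ (hlineS _ (k.mul_mem hσ'k hα) _ (k.mul_mem hσ'k hβ) (h'.imp (mul_ne_zero hσ') (mul_ne_zero hσ')) ν hν hν0)
        (by
          simp only [map_add, map_smul, LinearMap.add_apply, LinearMap.smul_apply, smul_eq_mul, bf_self, huq, hqu,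
            hrs, hsu, hsq, bf_symm r u, bf_symm r q, hru, hrq]
          intro e'
          exact mul_ne_zero hμ0 hν0 (by linear_combination e' - (σ * (1 + σ) * α * β) * h2))
      convert this using 1
      linear_combination (norm := module) (-1 : F) • vadd_self ((σ * α) • u + (σ * β) • q)
  have hkvec : ∀ α ∈ k, ∀ β ∈ k, ∀ μ ∈ k, ∀ ν ∈ k, (α ≠ 0 ∨ β ≠ 0 ∨ μ ≠ 0 ∨ ν ≠ 0) →
      α • u + β • q + μ • r + ν • s ∈ centres P := by
    intro α hα β hβ μ hμ ν hν h
    rcases eq_or_ne μ 0 with rfl | hμ0 <;> rcases eq_or_ne ν 0 with rfl | hν0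
    · rw [zero_smul, zero_smul, add_zero, add_zero]
      exact hplane α hα β hβ (by simpa using h)
    · rw [zero_smul, add_zero]
      by_cases h' : α = 0 ∧ β = 0
      · obtain ⟨rfl, rfl⟩ := h'
        have := hadd _ (hboth 1 k.one_mem 0 k.zero_mem 1 k.one_mem one_ne_zero ν hν hν0)
          _ (hlineR 1 k.one_mem 0 k.zero_mem (Or.inl one_ne_zero) 1 k.one_mem one_ne_zero)
          (by simp [bf_self, hrs, hsu, bf_symm r u, bf_symm s r, bf_symm s u, hru, hν0])
        convert this using 1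
        linear_combination (norm := module) (-1 : F) • vadd_self (u + r)
      · exact hlineS α hα β hβ (by tauto) ν hν hν0
    · rw [zero_smul, add_zero]
      by_cases h' : α = 0 ∧ β = 0
      · obtain ⟨rfl, rfl⟩ := h'
        have := hadd _ (hboth 1 k.one_mem 0 k.zero_mem μ hμ hμ0 1 k.one_mem one_ne_zero)
          _ (hlineS 1 k.one_mem 0 k.zero_mem (Or.inl one_ne_zero) 1 k.one_mem one_ne_zero)
          (by simp [bf_self, hrs, hsu, bf_symm r u, bf_symm s u, hru, hμ0])
        convert this using 1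
        linear_combination (norm := module) (-1 : F) • vadd_self (u + s)
      · exact hlineR α hα β hβ (by tauto) μ hμ hμ0
    · exact hboth α hα β hβ μ hμ hμ0 ν hν hν0
  have hexp := quad_expand huq hrs hru hsu hrq hsq
  have hDr : ∀ c ∈ centres P, bf c r ∈ k := fun c hc => by
    simp only [hr, pl, map_add, map_smul, smul_eq_mul]
    exact k.add_mem (hval c hc x hx) (k.add_mem (k.mul_mem ha₁ (hval c hc u hu)) (k.mul_mem hb₁ (hval c hc q hq)))
  have hDs : ∀ c ∈ centres P, bf c s ∈ k := fun c hc => by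
    simp only [hs, hw, pl, map_add, map_smul, smul_eq_mul]
    exact k.mul_mem hek (k.add_mem (hval c hc y hy)
      (k.add_mem (k.mul_mem (hval y hy q hq) (hval c hc u hu)) (k.mul_mem (hval y hy u hu) (hval c hc q hq))))
  -- the change of coordinates
  let back : VV →ₗ[F] VV := (LinearMap.proj 0).smulRight u + (LinearMap.proj 3).smulRight q +
    (LinearMap.proj 1).smulRight r + (LinearMap.proj 2).smulRight s
  let coor : VV →ₗ[F] VV := LinearMap.pi ![bf.flip q, bf.flip s, bf.flip r, bf.flip u]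
  have hbc : ∀ v, back (coor v) = v := fun v => by
    conv_rhs => rw [hexp v]
    simp [back, coor]
  have hcb : ∀ v, coor (back v) = v := fun v => funext fun i => by
    fin_cases i <;> simp [back, coor, bf_self, huq, hqu, hrs, bf_symm s r, bf_symm r u, bf_symm r q, bf_symm s u,
      bf_symm s q, hru, hrq, hsu, hsq]
  let h : GG := ⟨LinearMap.toMatrix' coor, LinearMap.toMatrix' back,
    by rw [← LinearMap.toMatrix'_comp, show coor.comp back = LinearMap.id from LinearMap.ext hcb,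
      LinearMap.toMatrix'_id],
    by rw [← LinearMap.toMatrix'_comp, show back.comp coor = LinearMap.id from LinearMap.ext hbc,
      LinearMap.toMatrix'_id]⟩
  have hmvh : ∀ v, mv h v = coor v := fun v => by
    show LinearMap.toMatrix' coor *ᵥ v = _
    rw [← Matrix.toLin'_apply, Matrix.toLin'_toMatrix']
  have hmvi : ∀ v, mv h⁻¹ v = back v := fun v => by
    show LinearMap.toMatrix' back *ᵥ v = _
    rw [← Matrix.toLin'_apply, Matrix.toLin'_toMatrix']
  have hhi : h⁻¹ ∈ Sp4 F := mem_Sp4_iff.2 fun v v' => by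
    rw [hmvi, hmvi]
    simp [back, bf_self, huq, hqu, hrs, bf_symm s r, bf_symm r u, bf_symm r q, bf_symm s u, bf_symm s q, hru, hrq,
      hsu, hsq, bf_def v v']
    ring
  have hh : h ∈ Sp4 F := by simpa using (Sp4 F).inv_mem hhi
  refine ⟨h, hh, k, fun g => ⟨fun hg => ⟨S.le hg, fun i j => ?_⟩, fun ⟨hgS, hgk⟩ => ?_⟩⟩
  · have hcol : ((h * g * h⁻¹ : GG) : Matrix (Fin 4) (Fin 4) F) i j =
        mv (h * g * h⁻¹) (Pi.single j 1) i := by simp [mv]
    have hb : back (Pi.single j 1) ∈ centres P := by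
      have hk01 : ∀ i', (Pi.single j (1 : F) : VV) i' ∈ k := fun i' => by
        rcases eq_or_ne i' j with rfl | hij
        · rw [Pi.single_eq_same]; exact k.one_mem
        · rw [Pi.single_eq_of_ne hij]; exact k.zero_mem
      have := hkvec _ (hk01 0) _ (hk01 3) _ (hk01 1) _ (hk01 2) (by fin_cases j <;> simp)
      simpa [back] using this
    rw [hcol, mv_mul, mv_mul, hmvi, hmvh]
    have hgb := centres_map S.le hg hb
    fin_cases i
    · exact hval _ hgb q hq
    · exact hDs _ hgb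
    · exact hDr _ hgb
    · exact hval _ hgb u hu
  · haveI : CharP k 2 := CharP.subring' F 2 k.toSubring
    haveI : Finite k := inferInstance
    set g' : GG := h * g * h⁻¹ with hg'
    have hg'S : g' ∈ Sp4 F := (Sp4 F).mul_mem ((Sp4 F).mul_mem hh hgS) hhi
    let ι : (Fin 2 ⊕ Fin 2 → k) → VV := fun v => ![v (Sum.inl 0), v (Sum.inl 1), v (Sum.inr 1), v (Sum.inr 0)]
    have hιidx : ∀ (v : Fin 2 ⊕ Fin 2 → k) (j : Fin 2 ⊕ Fin 2), ι v (idx j) = v j := fun v j => by
      rcases j with j | j <;> fin_cases j <;> simp [ι, idx]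
    have hιbf : ∀ v v', bf (ι v) (ι v') = (Cfsg.Lib.Classical.sympBilin 2 k v v' : F) := fun v v' => by
      rw [Cfsg.Lib.Classical.sympBilin_eq_sum]
      simp only [CharTwo.sub_eq_add]
      simp [ι, bf_def, Fin.sum_univ_two]
      ring
    let A : Matrix (Fin 2 ⊕ Fin 2) (Fin 2 ⊕ Fin 2) k := fun i j => ⟨(g' : Matrix (Fin 4) (Fin 4) F) (idx i) (idx j),
      hgk _ _⟩
    have hA : ∀ v, mv g' (ι v) = ι (A *ᵥ v) := fun v => by
      ext i
      obtain ⟨i', rfl⟩ : ∃ i', idx i' = i := by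
        fin_cases i
        · exact ⟨Sum.inl 0, rfl⟩
        · exact ⟨Sum.inl 1, rfl⟩
        · exact ⟨Sum.inr 1, rfl⟩
        · exact ⟨Sum.inr 0, rfl⟩
      rw [hιidx]
      simp [mv, Matrix.mulVec, dotProduct, Fintype.sum_sum_type, Fin.sum_univ_two, Fin.sum_univ_four, A, idx, ι]
      ring
    have hιinj : Function.Injective ι := fun v v' e' => funext fun j => Subtype.ext (by rw [← hιidx, e', hιidx])
    have hAS : A ∈ symplecticGroup (Fin 2) k := (Cfsg.Lib.Classical.mem_symplectic_iff_form A).2 fun v v' =>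
      Subtype.ext (by rw [← hιbf, ← hιbf, ← hA, ← hA, mem_Sp4_iff.1 hg'S])
    have key : ∀ T : symplecticGroup (Fin 2) k, ∃ g₀ ∈ P, ∀ v, mv (h * g₀ * h⁻¹) (ι v) = ι (T.1 *ᵥ v) := by
      intro T
      have hT : T ∈ Subgroup.closure {A : symplecticGroup (Fin 2) k | ∃ (w : Fin 2 ⊕ Fin 2 → k) (c : k),
          (A : Matrix (Fin 2 ⊕ Fin 2) (Fin 2 ⊕ Fin 2) k) = Cfsg.sympTransvection 2 w c} := by
        rw [Cfsg.Lib.Classical.closure_sympTransvection_eq_top]; trivial
      induction hT using Subgroup.closure_induction with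
      | mem B hB =>
        obtain ⟨w, c, hB⟩ := hB
        obtain ⟨m, hm⟩ := exists_sqrt c
        refine ⟨tv (mv h⁻¹ (ι (m • w))), ?_, fun v => ?_⟩
        · rcases eq_or_ne (ι (m • w)) 0 with e' | e'
          · rw [e', show mv h⁻¹ (0 : VV) = 0 from Matrix.mulVec_zero _, tv_zero]; exact P.one_mem
          · refine (?_ : mv h⁻¹ (ι (m • w)) ∈ centres P).2
            rw [hmvi]
            have := hkvec _ ((m • w) (Sum.inl 0)).2 _ ((m • w) (Sum.inr 0)).2 _ ((m • w) (Sum.inl 1)).2 _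
              ((m • w) (Sum.inr 1)).2 (by
                by_contra hc; push Not at hc
                obtain ⟨c0, c1, c2, c3⟩ := hc
                exact e' (funext fun i => by fin_cases i <;> simp [ι] <;> first | exact Or.imp id id (by simpa using c0) | exact (by simpa using c2) | exact (by simpa using c3) | exact (by simpa using c1)))
            simpa [back, ι] using this
        · rw [tv_conj hh, mv_inv', mv_tv, hιbf, hB, Cfsg.Lib.Classical.sympTransvection_mulVec, map_smul]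
          funext i
          fin_cases i <;> simp [ι, ← hm] <;> ring
      | one => exact ⟨1, P.one_mem, fun v => by simp [mv_one]⟩
      | mul B C _ _ hB hC =>
        obtain ⟨g₁, hg₁, e₁⟩ := hB
        obtain ⟨g₂, hg₂, e₂⟩ := hC
        refine ⟨g₁ * g₂, P.mul_mem hg₁ hg₂, fun v => ?_⟩
        rw [show h * (g₁ * g₂) * h⁻¹ = h * g₁ * h⁻¹ * (h * g₂ * h⁻¹) by group, mv_mul, e₂, e₁, Submonoid.coe_mul,
          Matrix.mulVec_mulVec]
      | inv B _ hB =>
        obtain ⟨g₁, hg₁, e₁⟩ := hB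
        refine ⟨g₁⁻¹, P.inv_mem hg₁, fun v => ?_⟩
        conv_lhs => rw [show v = B.1 *ᵥ ((B⁻¹).1 *ᵥ v) by
          rw [Matrix.mulVec_mulVec, ← Submonoid.coe_mul, mul_inv_cancel, Submonoid.coe_one, Matrix.one_mulVec]]
        rw [← e₁, show h * g₁⁻¹ * h⁻¹ = (h * g₁ * h⁻¹)⁻¹ by group, mv_inv]
    obtain ⟨g₀, hg₀, e₀⟩ := key ⟨A, hAS⟩
    have hsingle : ∀ j, (Pi.single (idx j) (1 : F) : VV) = ι (Pi.single j 1) := fun j => by
      funext i
      rcases j with j | j <;> fin_cases j <;> fin_cases i <;> simp [idx, ι]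
    have : g' = h * g₀ * h⁻¹ := Units.ext (Matrix.ext fun i j => by
      obtain ⟨j', rfl⟩ : ∃ j', idx j' = j := by
        fin_cases j
        · exact ⟨Sum.inl 0, rfl⟩
        · exact ⟨Sum.inl 1, rfl⟩
        · exact ⟨Sum.inr 1, rfl⟩
        · exact ⟨Sum.inr 0, rfl⟩
      have h1 := congrFun ((hA (Pi.single j' 1)).trans (e₀ (Pi.single j' 1)).symm) i
      rw [← hsingle] at h1
      simpa [mv] using h1)
    rw [hg', mul_left_inj, mul_right_inj] at this
    exact this ▸ hg₀

end Cfsg.Lib.SpFourResidual
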