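import Cfsg.Agent.SpFourResidual.Transv.Setup

/-!
The centres orthogonal to a vector: parameters modulo that vector form one subfield, collisions put the vector's line
among the centres.
-/

set_option autoImplicit false
set_option linter.unusedSectionVars false
set_option linter.unusedSimpArgs false

namespace Cfsg.Lib.SpFourResidual

open Matrix Cfsg.Lie Cfsg.Lib.RootSub
open scoped MatrixGroups

universe u

variable {F : Type u} [Field F] [Finite F] [CharP F 2] {P : Subgroup (GL (Fin 4) F)}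

local notation "GG" => GL (Fin 4) F
local notation "VV" => (Fin 4 → F)

/-- The parameters of a centre modulo `r` form `k`. -/
def ParMod (P : Subgroup (GL (Fin 4) F)) (k : Subfield F) (r x : Fin 4 → F) : Prop :=
  ∀ l : F, l ≠ 0 → ((∃ β : F, l • x + β • r ∈ centres P) ↔ l ∈ k)

/-- Everything orthogonal to `r` is governed by `k`. -/
structure Big (P : Subgroup (GL (Fin 4) F)) (k : Subfield F) (r : Fin 4 → F) : Prop where
  ne : r ≠ 0
  two : ∃ l ∈ k, l ≠ 0 ∧ l ≠ 1
  pair : ∃ e ∈ centres P, ∃ f ∈ centres P, bf e r = 0 ∧ bf f r = 0 ∧ bf e f ≠ 0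
  par : ∀ x ∈ centres P, bf x r = 0 → (∀ γ : F, x ≠ γ • r) → ParMod P k r x
  val : ∀ x ∈ centres P, bf x r = 0 → ∀ y ∈ centres P, bf y r = 0 → bf x y ∈ k

theorem ParMod.unique {k k' : Subfield F} {r x : VV} (h : ParMod P k r x) (h' : ParMod P k' r x) : k = k' := by
  ext l
  rcases eq_or_ne l 0 with rfl | hl
  · simp
  · rw [← h l hl, h' l hl]

theorem notMult_of_bf {r x y : VV} (hy : bf y r = 0) (h : bf x y ≠ 0) (γ : F) : x ≠ γ • r := fun e => h (by
  rw [e, map_smul, LinearMap.smul_apply, bf_symm, hy, smul_zero])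

/-- A vector orthogonal to a line and a hyperbolic pair in its perp is on the line. -/
theorem mem_line {r x y : VV} (hr : r ≠ 0) (hxy : bf x y ≠ 0) (hxr : bf x r = 0) (hyr : bf y r = 0) {z : VV}
    (hz : bf z r = 0) : ∃ γ : F, z = (bf z y / bf x y) • x + (bf x z / bf x y) • y + γ • r := by
  obtain ⟨s0, hs0⟩ := exists_bf_one hr
  set c := bf x y with hc
  set p := c⁻¹ • x with hp
  have hpy : bf p y = 1 := by rw [hp, map_smul, LinearMap.smul_apply, smul_eq_mul, inv_mul_cancel₀ hxy]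
  have hpr : bf p r = 0 := by rw [hp, map_smul, LinearMap.smul_apply, hxr, smul_zero]
  set s := s0 + bf s0 y • p + bf s0 p • y with hs
  have hrs : bf r s = 1 := by simp [hs, bf_symm r s0, bf_symm r p, bf_symm r y, hs0, hpr, hyr]
  have hps : bf p s = 0 := by
    simp [hs, bf_self, hpy, bf_symm p s0, CharTwo.add_self_eq_zero]
  have hys : bf y s = 0 := by
    simp [hs, bf_self, bf_symm y p, hpy, bf_symm y s0, CharTwo.add_self_eq_zero]
  refine ⟨bf z s, ?_⟩
  conv_lhs => rw [quad_expand hpy hrs hpr hps hyr hys z]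
  rw [hz, zero_smul, add_zero, hp, map_smul, smul_smul, smul_eq_mul, bf_symm z x, div_eq_mul_inv, div_eq_mul_inv,
    mul_comm c⁻¹]

theorem pair_mod (hle : P ≤ Sp4 F) {r x z : VV} (hr : r ≠ 0) (hxr : bf x r = 0) (hzr : bf z r = 0)
    (hx : x ∈ centres P) (hz : z ∈ centres P) (hne : bf x z ≠ 0) {a β : F} (ha : a • x + β • r ∈ centres P)
    (ha0 : a ≠ 0) (ha1 : a ≠ 1) : ∃ k, bf x z ∈ k ∧ ParMod P k r x ∧ ParMod P k r z := by
  set c := bf x z with hc
  set p := c⁻¹ • z with hp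
  have hpx : bf p x = 1 := by rw [hp, map_smul, LinearMap.smul_apply, smul_eq_mul, bf_symm]; exact inv_mul_cancel₀ hne
  have hpr : bf p r = 0 := by rw [hp, map_smul, LinearMap.smul_apply, hzr, smul_zero]
  let cz : VV → (Fin 2 → F) := fun v => ![bf v x, bf p v]
  have hexp : ∀ v, bf v r = 0 → ∃ γ : F, v = pvec p x (cz v) + γ • r := fun v hv => by
    obtain ⟨γ, hγ⟩ := mem_line hr (by rw [hpx]; exact one_ne_zero) hpr hxr hv
    exact ⟨γ, by rw [hpx, div_one, div_one] at hγ; simpa [pvec, cz] using hγ⟩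
  have hzcoord : ∀ (q : Fin 2 → F) (γ : F), cz (pvec p x q + γ • r) = q := fun q γ => by
    funext i
    fin_cases i <;> simp [cz, pvec, bf_self, hpx, hpr, bf_symm x p, bf_symm r x, hxr]
  have hperp : ∀ (q : Fin 2 → F) (γ : F), bf (pvec p x q + γ • r) r = 0 := fun q γ => by
    simp [pvec, hpr, hxr, bf_self]
  let G0 : Subgroup SL(2, F) :=
    { carrier := {h | ∃ g ∈ P, mv g r = r ∧ ∀ v, bf v r = 0 → cz (mv g v) = h.1 *ᵥ cz v}
      one_mem' := ⟨1, P.one_mem, mv_one r, fun v _ => by rw [mv_one]; exact (one_mulVec _).symm⟩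
      mul_mem' := fun {h₁ h₂} ⟨g₁, hg₁, e₁, f₁⟩ ⟨g₂, hg₂, e₂, f₂⟩ => ⟨g₁ * g₂, P.mul_mem hg₁ hg₂,
        by rw [mv_mul, e₂, e₁], fun v hv => by
          rw [mv_mul, f₁ _ (by rw [← e₂, mem_Sp4_iff.1 (hle hg₂), hv]), f₂ v hv, sl_mv_mul]⟩
      inv_mem' := fun {h} ⟨g, hg, e, f⟩ => by
        refine ⟨g⁻¹, P.inv_mem hg, by conv_lhs => rw [← e, mv_inv], fun v hv => ?_⟩
        have h1 := f (mv g⁻¹ v) (by
          rw [← mem_Sp4_iff.1 (hle hg), mv_inv', e]; exact hv)
        rw [mv_inv'] at h1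
        rw [h1, sl_mv_inv] }
  let E : Set (Fin 2 → F) := {q | q ≠ 0 ∧ ∃ γ : F, pvec p x q + γ • r ∈ centres P}
  have e1 : ∀ l : F, pvec p x (l • ![0, 1]) = l • x := fun l => by simp [pvec]
  have e2 : ∀ l : F, pvec p x (l • ![c, 0]) = l • z := fun l => by
    simp [pvec, hp, smul_smul, mul_assoc, mul_inv_cancel₀ hne]
  have m1 : ∀ l : F, l ≠ 0 → (l • (![0, 1] : Fin 2 → F) ∈ E ↔ ∃ γ : F, l • x + γ • r ∈ centres P) := fun l hl => by
    rw [show (l • (![0, 1] : Fin 2 → F) ∈ E) = (l • (![0, 1] : Fin 2 → F) ≠ 0 ∧ ∃ γ : F,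
      pvec p x (l • ![0, 1]) + γ • r ∈ centres P) from rfl, e1]
    exact and_iff_right fun e => hl (by simpa using congrFun e 1)
  have m2 : ∀ l : F, l ≠ 0 → (l • (![c, 0] : Fin 2 → F) ∈ E ↔ ∃ γ : F, l • z + γ • r ∈ centres P) := fun l hl => by
    rw [show (l • (![c, 0] : Fin 2 → F) ∈ E) = (l • (![c, 0] : Fin 2 → F) ≠ 0 ∧ ∃ γ : F,
      pvec p x (l • ![c, 0]) + γ • r ∈ centres P) from rfl, e2]
    exact and_iff_right fun e => (mul_ne_zero hl hne) (by simpa using congrFun e 0)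
  obtain ⟨k, hk, hkx, hkz⟩ := plane_pair G0 E
    (fun h ⟨g, hg, e, f⟩ q ⟨hq, γ, hd⟩ => by
      refine ⟨fun e0 => hq (by rw [← sl_mv_inv h q, e0, mulVec_zero]), ?_⟩
      have h1 := f _ (hperp q γ)
      rw [hzcoord] at h1
      obtain ⟨γ', hγ'⟩ := hexp (mv g (pvec p x q + γ • r))
        ((congrArg (bf (mv g (pvec p x q + γ • r))) e.symm).trans
          ((mem_Sp4_iff.1 (hle hg) _ _).trans (hperp q γ)))
      rw [h1] at hγ'
      exact ⟨γ', hγ' ▸ centres_map hle hg hd⟩)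
    (fun q ⟨_, γ, hd⟩ => by
      refine ⟨_, hd.2, by rw [mv_tv, bf_symm, hperp, zero_smul, add_zero], fun v hv => ?_⟩
      obtain ⟨δ, hδ⟩ := hexp v hv
      have hdet : bf v (pvec p x q + γ • r) = det2 (cz v) q := by
        conv_lhs => rw [hδ]
        simp [pvec, det2, bf_self, hpx, hpr, hxr, bf_symm x p, bf_symm r p, bf_symm r x]
      rw [mv_tv, tr2_mulVec, hdet]
      funext i
      fin_cases i <;> simp [cz, pvec, bf_self, hpx, hpr, bf_symm x p, bf_symm r x, hxr])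
    (fun h => h.1 rfl) (e := ![0, 1]) (f := ![c, 0])
    (by simpa using (m1 1 one_ne_zero).2 ⟨0, by simpa using hx⟩)
    (by simpa using (m2 1 one_ne_zero).2 ⟨0, by simpa using hz⟩) ((m1 a ha0).2 ⟨β, ha⟩) ha1
    (by simp [det2]; exact hne)
  exact ⟨k, by simpa [det2] using hk, fun l hl => (m1 l hl).symm.trans (hkx l hl),
    fun l hl => (m2 l hl).symm.trans (hkz l hl)⟩

/-- A doubled pair makes the vector big. -/
theorem big_of_pair (hle : P ≤ Sp4 F) {r e f : VV} (hr : r ≠ 0) (her : bf e r = 0) (hfr : bf f r = 0)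
    (he : e ∈ centres P) (hf : f ∈ centres P) (hne : bf e f ≠ 0) {a β : F} (ha : a • e + β • r ∈ centres P)
    (ha0 : a ≠ 0) (ha1 : a ≠ 1) : ∃ k, Big P k r := by
  obtain ⟨k, -, hke, hkf⟩ := pair_mod hle hr her hfr he hf hne ha ha0 ha1
  have hak : a ∈ k := (hke a ha0).1 ⟨β, ha⟩
  have hpar : ∀ x ∈ centres P, bf x r = 0 → (∀ γ : F, x ≠ γ • r) → ParMod P k r x := by
    intro x hx hxr hxn
    have via : ∀ e', e' ∈ centres P → bf e' r = 0 → ParMod P k r e' → bf e' x ≠ 0 → ParMod P k r x := by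
      intro e' he' he'r hke' hne'
      obtain ⟨β', hβ'⟩ := (hke' a ha0).2 hak
      obtain ⟨k', -, h1, h2⟩ := pair_mod hle hr he'r hxr he' hx hne' hβ' ha0 ha1
      rwa [hke'.unique h1]
    by_cases h1 : bf e x = 0
    · by_cases h2 : bf f x = 0
      · exfalso
        obtain ⟨γ, hγ⟩ := mem_line hr hne her hfr hxr
        rw [bf_symm x f, h2, h1, zero_div, zero_smul, zero_smul, zero_add, zero_add] at hγ
        exact hxn γ hγ
      · exact via f hf hfr hkf h2
    · exact via e he her hke h1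
  refine ⟨k, hr, ⟨a, hak, ha0, ha1⟩, ⟨e, he, f, hf, her, hfr, hne⟩, hpar, fun x hx hxr y hy hyr => ?_⟩
  rcases eq_or_ne (bf x y) 0 with h | h
  · rw [h]; exact k.zero_mem
  have hkx := hpar x hx hxr (notMult_of_bf hyr h)
  obtain ⟨β', hβ'⟩ := (hkx a ha0).2 hak
  obtain ⟨k', hk', h1, -⟩ := pair_mod hle hr hxr hyr hx hy h hβ' ha0 ha1
  rwa [hkx.unique h1]

theorem Big.map {k : Subfield F} {r : VV} (B : Big P k r) (hle : P ≤ Sp4 F) {g : GG} (hg : g ∈ P) :
    Big P k (mv g r) := by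
  have hS := mem_Sp4_iff.1 (hle hg)
  have hback : ∀ {x : VV}, bf x (mv g r) = 0 → bf (mv g⁻¹ x) r = 0 := fun {x} h => by
    rw [← hS, mv_inv']; exact h
  have hpre : ∀ {x : VV}, x ∈ centres P → mv g⁻¹ x ∈ centres P := fun hx => centres_map hle (P.inv_mem hg) hx
  refine ⟨mv_ne_zero B.ne, B.two, ?_, fun x hx hxr hxn l hl => ?_, fun x hx hxr y hy hyr => ?_⟩
  · obtain ⟨e, he, f, hf, h1, h2, h3⟩ := B.pair
    exact ⟨_, centres_map hle hg he, _, centres_map hle hg hf, by rwa [hS], by rwa [hS], by rwa [hS]⟩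
  · rw [← B.par _ (hpre hx) (hback hxr) (fun γ e => hxn γ (by rw [← mv_inv' g x, e, mv_smul])) l hl]
    refine exists_congr fun β => ⟨fun h => ?_, fun h => ?_⟩
    · have := centres_map hle (P.inv_mem hg) h
      rwa [mv_add, mv_smul, mv_smul, mv_inv] at this
    · have := centres_map hle hg h
      rwa [mv_add, mv_smul, mv_smul, mv_inv'] at this
  · rw [← mv_inv' g x, ← mv_inv' g y, hS]
    exact B.val _ (hpre hx) (hback hxr) _ (hpre hy) (hback hyr)

theorem pair_prod {r p : VV} (hpr : bf p r = 0) (δ : F) (z : VV) :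
    mv (tv p * tv (p + δ • r)) z = z + δ • (bf z p • r + bf z r • p) + (δ ^ 2 * bf z r) • r := by
  rw [mv_mul, mv_tv, mv_tv]
  simp only [map_add, map_smul, LinearMap.add_apply, LinearMap.smul_apply, smul_eq_mul, bf_self, bf_symm r p, hpr]
  linear_combination (norm := module) vadd_self (bf z p • p)

/-- Two lifts of one image put multiples of `r` among the centres. -/
theorem Big.collide {k : Subfield F} {r : VV} (B : Big P k r) (hle : P ≤ Sp4 F) {x y : VV} (hx : x ∈ centres P)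
    (hy : y ∈ centres P) (hxr : bf x r = 0) (hyr : bf y r = 0) (hxy : bf x y ≠ 0) {δ : F}
    (hd : x + δ • r ∈ centres P) (hδ : δ ≠ 0) {l : F} (hl : l ∈ k) (hl0 : l ≠ 0) (hl1 : l ≠ 1) :
    (δ * (1 + l⁻¹)) • r ∈ centres P := by
  have h2 := CharTwo.two_eq_zero (R := F)
  have trans : ∀ p δ' q, p ∈ centres P → p + δ' • r ∈ centres P → q ∈ centres P → bf p r = 0 → bf q r = 0 →
      q + (bf q p * δ') • r ∈ centres P := by
    intro p δ' q hp hp' hq hpr hqr
    have h := centres_map hle (P.mul_mem hp.2 hp'.2) hq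
    rw [pair_prod hpr, hqr, zero_smul, add_zero, mul_zero, zero_smul, add_zero, smul_smul, mul_comm] at h
    exact h
  set c := bf x y with hc
  have hck : c ∈ k := B.val x hx hxr y hy hyr
  have hν : (l * c)⁻¹ ∈ k := k.inv_mem (k.mul_mem hl hck)
  have hν0 : (l * c)⁻¹ ≠ 0 := inv_ne_zero (mul_ne_zero hl0 hxy)
  have hyx : bf y x ≠ 0 := by rw [bf_symm]; exact hxy
  obtain ⟨β, hy'⟩ := (B.par y hy hyr (notMult_of_bf hxr hyx) _ hν0).2 hν
  obtain ⟨α, hx'⟩ := (B.par x hx hxr (notMult_of_bf hyr hxy) l hl0).2 hl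
  set y' := (l * c)⁻¹ • y + β • r
  set x' := l • x + α • r
  have hy'r : bf y' r = 0 := by simp [y', hyr, bf_self]
  have hx'r : bf x' r = 0 := by simp [x', hxr, bf_self]
  have h1 := trans x δ y' hx hd hy' hxr hy'r
  have h3 := trans y' _ x' hy' h1 hx' hy'r hx'r
  have e1 : bf y' x = l⁻¹ := by
    simp [y', bf_symm r x, hxr, bf_symm y x, ← hc]; field_simp
  have e2 : bf x' y' = 1 := by
    simp [x', y', bf_self, bf_symm r y, hxr, hyr, ← hc]; field_simp
  rw [e1, e2, one_mul] at h3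
  refine ⟨smul_ne_zero (mul_ne_zero hδ fun e => hl1 ?_) B.ne, ?_⟩
  · have := CharTwo.add_eq_zero.1 e
    rw [← inv_inv l, ← this, inv_one]
  have he : tv (x') * tv (x' + (l⁻¹ * δ) • r) * (tv x * tv (x + δ • r)) = tv ((δ * (1 + l⁻¹)) • r) := by
    refine mv_ext fun z => ?_
    rw [mv_mul, pair_prod hxr, pair_prod hx'r, mv_tv]
    simp only [x', map_add, map_smul, LinearMap.add_apply, LinearMap.smul_apply, smul_eq_mul, bf_self,
      bf_symm r x, hxr, bf_self x]
    match_scalars <;> field_simp <;> linear_combination (norm := ring_nf) (0 : F) * h2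
    all_goals simp [h2]
  rw [← he]
  exact P.mul_mem (P.mul_mem hx'.2 h3.2) (P.mul_mem hx.2 hd.2)

/-- An uneven triple gives a centre on the radical line of its span. -/
theorem uneven_point (hle : P ≤ Sp4 F) (hone : ∀ v ∈ centres P, ∀ a : F, a • v ∈ centres P → a = 1) {u w v : VV}
    (hu : u ∈ centres P) (hw : w ∈ centres P) (hv : v ∈ centres P) (huw : u ≠ w) (h0 : bf u w = 0)
    (hc : bf v u ≠ 0) (hd : bf v w ≠ 0) (hcd : bf v u ≠ bf v w) :
    ∃ s : F, s • (bf v w • u + bf v u • w) ∈ centres P ∧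
      ∃ k, Big P k (bf v w • u + bf v u • w) := by
  have h2 := CharTwo.two_eq_zero (R := F)
  set c := bf v u with hcdef
  set d := bf v w with hddef
  set ρ := d • u + c • w with hρ
  have hur : bf u ρ = 0 := by simp [hρ, bf_self, h0]
  have hvr : bf v ρ = 0 := by simp [hρ, ← hcdef, ← hddef]; linear_combination (c * d) * h2
  have hρ0 : ρ ≠ 0 := fun e => by
    have : w = (d / c) • u := by
      funext i
      have hi := congrFun e i
      simp [hρ] at hi ⊢
      field_simp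
      linear_combination hi - (d * u i) * h2
    have h1 := hone u hu (d / c) (this ▸ hw)
    rw [h1, one_smul] at this
    exact huw this.symm
  have huv : bf u v ≠ 0 := by rw [bf_symm]; exact hc
  have ha : (d / c) • u + c⁻¹ • ρ = w := by
    rw [hρ, smul_add, smul_smul, smul_smul, inv_mul_cancel₀ hc, one_smul, ← add_assoc, mul_comm, ← div_eq_mul_inv,
      vadd_self, zero_add]
  have ha0 : d / c ≠ 0 := div_ne_zero hd hc
  have ha1 : d / c ≠ 1 := fun e => hcd ((div_eq_one_iff_eq hc).1 e).symm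
  obtain ⟨k, B⟩ := big_of_pair hle hρ0 hur hvr hu hv huv (ha ▸ hw) ha0 ha1
  suffices ∃ s : F, s • ρ ∈ centres P by
    obtain ⟨s, hs⟩ := this; exact ⟨s, hs, k, B⟩
  by_contra hno
  push Not at hno
  set a := d / c
  have hak : a ∈ k := (B.par u hu hur (notMult_of_bf hvr huv) a ha0).1 ⟨c⁻¹, ha ▸ hw⟩
  have h1a : 1 + a ≠ 0 := fun e => ha1 (CharTwo.add_eq_zero.1 e).symm
  obtain ⟨β, hx⟩ := (B.par u hu hur (notMult_of_bf hvr huv) (1 + a) h1a).2 (k.add_mem k.one_mem hak)
  set x := (1 + a) • u + β • ρ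
  set δ := a * c⁻¹ + (1 + a) * β
  have he : ∀ z, mv (tv x * (tv w * tv u)) z = z + δ • (bf z u • ρ + bf z ρ • u) +
      ((β + c⁻¹) ^ 2 * bf z ρ) • ρ := fun z => by
    have hρu : bf ρ u = 0 := by rw [bf_symm, hur]
    rw [mv_mul, mv_mul, mv_tv, mv_tv, mv_tv, ← ha]
    simp only [x, δ, map_add, map_smul, LinearMap.add_apply, LinearMap.smul_apply, smul_eq_mul, bf_self, hur, hρu]
    match_scalars <;> linear_combination (norm := ring_nf) (0 : F) * h2
    all_goals simp [h2]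
  have hP : tv x * (tv w * tv u) ∈ P := P.mul_mem hx.2 (P.mul_mem hw.2 hu.2)
  rcases eq_or_ne δ 0 with hδ | hδ
  · have ht : tv x * (tv w * tv u) = tv ((β + c⁻¹) • ρ) := mv_ext fun z => by
      rw [he, hδ, mv_tv, zero_smul, add_zero, map_smul, smul_smul, smul_eq_mul]
      congr 2
      ring
    have hs : β + c⁻¹ ≠ 0 := fun e => by
      have hβ : β = c⁻¹ := CharTwo.add_eq_zero.1 e
      have hi := inv_ne_zero hc
      refine hi ?_
      have : a * c⁻¹ + (1 + a) * β = 0 := hδ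
      rw [hβ] at this
      linear_combination this - (a * c⁻¹) * h2
    exact hno _ ⟨smul_ne_zero hs hρ0, ht ▸ hP⟩
  · have hcol := centres_map hle hP hv
    rw [he, hvr, zero_smul, add_zero, mul_zero, zero_smul, add_zero, smul_smul, ← hcdef] at hcol
    obtain ⟨l, hl, hl0, hl1⟩ := B.two
    exact hno _ (B.collide hle hv hu hvr hur hc hcol (mul_ne_zero hδ hc) hl hl0 hl1)

end Cfsg.Lib.SpFourResidual
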