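import Cfsg.Agent.SpFourResidual.Transv.Base

/-!
Sets of transvection centres in a plane: a centre carrying two parameters gives one subfield.
-/

set_option autoImplicit false
set_option linter.unusedSectionVars false
set_option linter.unusedSimpArgs false

namespace Cfsg.Lib.SpFourResidual

open Matrix Cfsg.Lib.RootSub Cfsg.Lib.MitchellThree.Residual.Even
open scoped MatrixGroups

universe u

variable {F : Type u} [Field F]

local notation "WW" => (Fin 2 → F)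

/-- The alternating form of the plane. -/
def det2 (p q : WW) : F := p 0 * q 1 + p 1 * q 0

variable [CharP F 2]

theorem det2_self (p : WW) : det2 p p = 0 := by
  rw [det2]; linear_combination (p 0 * p 1) * (CharTwo.two_eq_zero (R := F))

/-- A transvection of the plane. -/
def tr2 (e : WW) : SL(2, F) :=
  ⟨!![1 + e 0 * e 1, e 0 ^ 2; e 1 ^ 2, 1 + e 0 * e 1], by
    rw [Matrix.det_fin_two_of]; linear_combination (e 0 * e 1) * (CharTwo.two_eq_zero (R := F))⟩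

theorem tr2_mulVec (e z : WW) : (tr2 e).1 *ᵥ z = z + det2 z e • e := by
  ext i
  fin_cases i <;> simp [tr2, det2, Matrix.mulVec, dotProduct, Fin.sum_univ_two] <;> ring

theorem sl_ext {g h : SL(2, F)} (e : ∀ z : WW, g.1 *ᵥ z = h.1 *ᵥ z) : g = h :=
  Subtype.ext (Matrix.ext_iff_mulVec.2 e)

theorem sl_mv_mul (g h : SL(2, F)) (z : WW) : (g * h).1 *ᵥ z = g.1 *ᵥ (h.1 *ᵥ z) :=
  (mulVec_mulVec z g.1 h.1).symm

theorem sl_mv_inv (g : SL(2, F)) (z : WW) : (g⁻¹).1 *ᵥ (g.1 *ᵥ z) = z := by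
  rw [← sl_mv_mul, inv_mul_cancel]; exact one_mulVec z

theorem det2_map (g : SL(2, F)) (p q : WW) : det2 (g.1 *ᵥ p) (g.1 *ᵥ q) = det2 p q := by
  have hd := det_two g
  simp only [det2, Matrix.mulVec, dotProduct, Fin.sum_univ_two]
  linear_combination (p 0 * q 1 + p 1 * q 0) * hd +
    (g.1 0 0 * g.1 1 0 * p 0 * q 0 + g.1 0 1 * g.1 1 1 * p 1 * q 1 +
      g.1 0 1 * g.1 1 0 * (p 0 * q 1 + p 1 * q 0)) * (CharTwo.two_eq_zero (R := F))

theorem tr2_conj (g : SL(2, F)) (e : WW) : g * tr2 e * g⁻¹ = tr2 (g.1 *ᵥ e) := by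
  rw [mul_inv_eq_iff_eq_mul]
  refine sl_ext fun z => ?_
  rw [sl_mv_mul, sl_mv_mul, tr2_mulVec, tr2_mulVec, mulVec_add, mulVec_smul, det2_map]

theorem tr2_inj {e f : WW} (h : tr2 e = tr2 f) : e = f := by
  have h01 := congrArg (fun g : SL(2, F) => g.1 0 1) h
  have h10 := congrArg (fun g : SL(2, F) => g.1 1 0) h
  simp [tr2] at h01 h10
  ext i; fin_cases i
  · exact CharTwo.sq_inj.1 h01
  · exact CharTwo.sq_inj.1 h10

theorem tr2_low (l : F) : tr2 (![0, l] : WW) = loEl (l ^ 2) :=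
  sl_entries (by simp [tr2, loEl_coe]) (by simp [tr2, loEl_coe]) (by simp [tr2, loEl_coe]) (by simp [tr2, loEl_coe])

theorem tr2_up (l : F) : tr2 (![l, 0] : WW) = upEl (l ^ 2) :=
  sl_entries (by simp [tr2, upEl_coe]) (by simp [tr2, upEl_coe]) (by simp [tr2, upEl_coe]) (by simp [tr2, upEl_coe])

/-- Coordinates putting `e` on the second axis and `f` on the first. -/
def frame2 (e f : WW) (h : det2 e f ≠ 0) : SL(2, F) :=
  ⟨!![f 0 / det2 e f, e 0; f 1 / det2 e f, e 1], by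
    rw [Matrix.det_fin_two_of]; field_simp
    rw [det2]; linear_combination -(e 0 * f 1) * (CharTwo.two_eq_zero (R := F))⟩

/-- A centre with two parameters: its parameters and those of every opposite centre form one subfield. -/
theorem plane_pair [Finite F] (G : Subgroup SL(2, F)) (E : Set (Fin 2 → F))
    (hinv : ∀ g ∈ G, ∀ e ∈ E, g.1 *ᵥ e ∈ E) (htr : ∀ e ∈ E, tr2 e ∈ G) (h0 : (0 : Fin 2 → F) ∉ E)
    {e f : Fin 2 → F} (he : e ∈ E) (hf : f ∈ E) {a : F} (ha : a • e ∈ E) (ha1 : a ≠ 1) (hc : det2 e f ≠ 0) :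
    ∃ k : Subfield F, det2 e f ∈ k ∧ (∀ l : F, l ≠ 0 → (l • e ∈ E ↔ l ∈ k)) ∧
      (∀ l : F, l ≠ 0 → (l • f ∈ E ↔ l ∈ k)) := by
  set c := det2 e f with hcdef
  set M := frame2 e f hc with hM
  have ha0 : a ≠ 0 := fun e' => h0 (by rw [e', zero_smul] at ha; exact ha)
  have hMe : ∀ l : F, M.1 *ᵥ ![0, l] = l • e := fun l => by
    ext i; fin_cases i <;> simp [hM, frame2, Matrix.mulVec, dotProduct, Fin.sum_univ_two] <;> ring
  have hMf : ∀ l : F, M.1 *ᵥ ![l * c, 0] = l • f := fun l => by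
    ext i; fin_cases i <;> simp [hM, frame2, Matrix.mulVec, dotProduct, Fin.sum_univ_two, ← hcdef] <;>
      field_simp
  let G1 : Subgroup SL(2, F) := G.comap (MulAut.conj M).toMonoidHom
  have hG1 : ∀ z : WW, M.1 *ᵥ z ∈ E → tr2 z ∈ G1 := fun z hz => by
    rw [Subgroup.mem_comap]
    show M * tr2 z * M⁻¹ ∈ G
    rw [tr2_conj]; exact htr _ hz
  have hback : ∀ {x : SL(2, F)}, x ∈ G1 → ∀ z : WW, M.1 *ᵥ z ∈ E → M.1 *ᵥ (x.1 *ᵥ z) ∈ E := fun {x} hx z hz => by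
    have h := hinv _ (show M * x * M⁻¹ ∈ G from hx) _ hz
    rwa [← sl_mv_mul, inv_mul_cancel_right, sl_mv_mul] at h
  have hlo : ∀ {l : F}, l • e ∈ E → loEl (l ^ 2) ∈ G1 := fun {l} h => by
    rw [← tr2_low]; exact hG1 _ (by rwa [hMe])
  have hup : ∀ {l : F}, l • f ∈ E → upEl ((l * c) ^ 2) ∈ G1 := fun {l} h => by
    rw [← tr2_up]; exact hG1 _ (by rwa [hMf])
  have h1e : loEl (1 : F) ∈ G1 := by simpa using hlo (l := 1) (by rwa [one_smul])
  have hcf : upEl (c ^ 2) ∈ G1 := by simpa using hup (l := 1) (by rwa [one_smul])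
  have hc2 : c ^ 2 ≠ 0 := pow_ne_zero _ hc
  obtain ⟨k, μ, hμ, hL, hU⟩ := lines_of_pair G1 h1e (hlo ha) one_ne_zero (pow_ne_zero _ ha0)
    (fun e' => ha1 (CharTwo.sq_inj.1 (by rw [← e', one_pow]))) hcf hc2
  have hμk : μ ∈ k := by
    have := k.inv_mem ((hL 1).1 h1e)
    rwa [one_div, inv_inv] at this
  have hck : c ∈ k := mem_of_sq (by
    have := k.div_mem ((hU _).1 hcf) hμk
    rwa [mul_div_cancel_right₀ _ hμ] at this)
  have hnup : ∀ {r : F}, r ≠ 0 → upEl r ∉ lowerTri (F := F) := fun {r} hr h => hr (by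
    simpa [mem_lowerTri, upEl_coe] using h)
  have hupsq : ∀ r : F, upEl r * upEl r = 1 := fun r => by rw [upEl_mul, CharTwo.add_self_eq_zero, upEl_zero]
  refine ⟨k, hck, fun l hl => ⟨fun h => ?_, fun h => ?_⟩, fun l hl => ⟨fun h => ?_, fun h => ?_⟩⟩
  · refine mem_of_sq ?_
    have := k.mul_mem ((hL _).1 (hlo h)) hμk
    rwa [div_mul_cancel₀ _ hμ] at this
  · have hs : loEl (l ^ 2) ∈ G1 := (hL _).2 (k.div_mem (pow_mem h 2) hμk)
    obtain ⟨x, hx, hxe⟩ := conj_outside (pow_ne_zero 2 hl) hs hcf (hupsq _) (hnup hc2)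
    rw [← tr2_low, ← tr2_up, tr2_conj] at hxe
    have hfM : M.1 *ᵥ ![c, 0] ∈ E := by
      have h1 := hMf 1
      rw [one_mul, one_smul] at h1
      rw [h1]; exact hf
    have hz := hback (G1.inv_mem hx) ![c, 0] hfM
    rw [← tr2_inj hxe, sl_mv_inv, hMe] at hz
    exact hz
  · refine mem_of_sq ?_
    have h2 : (l * c) ^ 2 * μ ∈ k := (hU _).1 (hup h)
    have := k.div_mem h2 (k.mul_mem (pow_mem hck 2) hμk)
    rwa [mul_pow, mul_assoc, mul_div_cancel_right₀ _ (mul_ne_zero hc2 hμ)] at this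
  · have hw : upEl ((l * c) ^ 2) ∈ G1 := (hU _).2 (k.mul_mem (pow_mem (k.mul_mem h hck) 2) hμk)
    have hlc : (l * c) ^ 2 ≠ 0 := pow_ne_zero _ (mul_ne_zero hl hc)
    obtain ⟨x, hx, hxe⟩ := conj_outside one_ne_zero h1e hw (hupsq _) (hnup hlc)
    rw [← one_pow (M := F) 2, ← tr2_low, ← tr2_up, tr2_conj] at hxe
    have hz := hback hx ![0, 1] (by rw [hMe, one_smul]; exact he)
    rwa [tr2_inj hxe, hMf] at hz

end Cfsg.Lib.SpFourResidual
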