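import Cfsg.Agent.SpFourResidual.Transv.Plane
import Cfsg.Agent.InvolCalc.ZStarApps

/-!
A simple irreducible symplectic group with a transvection: its centres span, form one orbit, and each is orthogonal
to another one.
-/

set_option autoImplicit false
set_option linter.unusedSectionVars false
set_option linter.unusedSimpArgs false

namespace Cfsg.Lib.SpFourResidual

open Matrix Cfsg.Lie Cfsg.Lib.RootSub Cfsg.Lib.MitchellThree.Residual.Even
open scoped MatrixGroups

universe u

variable {F : Type u} [Field F]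

local notation "GG" => GL (Fin 4) F
local notation "VV" => (Fin 4 → F)

/-- The hypotheses. -/
structure Setup (P : Subgroup (GL (Fin 4) F)) : Prop where
  le : P ≤ Sp4 F
  simple : IsSimpleGroup P
  nonab : ¬ IsMulCommutative P
  irr : ∀ W : Submodule F (Fin 4 → F), (∀ g ∈ P, ∀ w ∈ W, mv g w ∈ W) → W = ⊥ ∨ W = ⊤

section two

variable [CharP F 2] {P : Subgroup (GL (Fin 4) F)}

theorem centres_map (hle : P ≤ Sp4 F) {g : GG} (hg : g ∈ P) {v : VV} (hv : v ∈ centres P) :
    mv g v ∈ centres P :=
  ⟨mv_ne_zero hv.1, by rw [← tv_conj (hle hg)]; exact P.mul_mem (P.mul_mem hg hv.2) (P.inv_mem hg)⟩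

theorem centres_step (hle : P ≤ Sp4 F) {u v : VV} (hu : u ∈ centres P) (hv : v ∈ centres P) :
    v + bf v u • u ∈ centres P := by
  rw [← mv_tv]; exact centres_map hle hu.2 hv

/-- The embedding of the plane group on a hyperbolic line. -/
def embM (x y : VV) (h : SL(2, F)) : VV →ₗ[F] VV :=
  LinearMap.id + ((h.1 0 0 - 1) • bf.flip y + h.1 0 1 • bf x).smulRight x +
    (h.1 1 0 • bf.flip y + (h.1 1 1 - 1) • bf x).smulRight y

theorem embM_apply (x y : VV) (h : SL(2, F)) (z : VV) :
    embM x y h z = z + ((h.1 0 0 - 1) * bf z y + h.1 0 1 * bf x z) • x +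
      (h.1 1 0 * bf z y + (h.1 1 1 - 1) * bf x z) • y := by
  simp [embM]

theorem embM_mul {x y : VV} (hxy : bf x y = 1) (g h : SL(2, F)) (z : VV) :
    embM x y (g * h) z = embM x y g (embM x y h z) := by
  simp only [embM_apply, map_add, map_smul, LinearMap.add_apply, LinearMap.smul_apply, smul_eq_mul, bf_self,
    hxy, bf_symm y x, Matrix.SpecialLinearGroup.coe_mul, Matrix.mul_apply, Fin.sum_univ_two]
  module

theorem embM_one (x y z : VV) : embM x y 1 z = z := by simp [embM_apply]

/-- The embedding as a homomorphism. -/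
def emb {x y : VV} (hxy : bf x y = 1) : SL(2, F) →* GG where
  toFun h := ⟨LinearMap.toMatrix' (embM x y h), LinearMap.toMatrix' (embM x y h⁻¹), by
      rw [← LinearMap.toMatrix'_comp]
      rw [show (embM x y h).comp (embM x y h⁻¹) = LinearMap.id from LinearMap.ext fun z => by
        rw [LinearMap.comp_apply, ← embM_mul hxy, mul_inv_cancel, embM_one]; rfl]
      exact LinearMap.toMatrix'_id, by
      rw [← LinearMap.toMatrix'_comp]
      rw [show (embM x y h⁻¹).comp (embM x y h) = LinearMap.id from LinearMap.ext fun z => by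
        rw [LinearMap.comp_apply, ← embM_mul hxy, inv_mul_cancel, embM_one]; rfl]
      exact LinearMap.toMatrix'_id⟩
  map_one' := Units.ext (by
    show LinearMap.toMatrix' (embM x y 1) = 1
    rw [show embM x y 1 = LinearMap.id from LinearMap.ext fun z => embM_one x y z]
    exact LinearMap.toMatrix'_id)
  map_mul' g h := Units.ext (by
    show LinearMap.toMatrix' (embM x y (g * h)) = _ * _
    rw [← LinearMap.toMatrix'_comp]
    exact congrArg _ (LinearMap.ext fun z => embM_mul hxy g h z))

theorem mv_emb {x y : VV} (hxy : bf x y = 1) (h : SL(2, F)) (z : VV) :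
    mv (emb hxy h) z = embM x y h z := by
  show LinearMap.toMatrix' (embM x y h) *ᵥ z = _
  rw [← Matrix.toLin'_apply, Matrix.toLin'_toMatrix']

/-- The vector of the plane with given coordinates. -/
def pvec (x y : VV) (p : Fin 2 → F) : VV := p 0 • x + p 1 • y

theorem emb_tr2 {x y : VV} (hxy : bf x y = 1) (p : Fin 2 → F) : emb hxy (tr2 p) = tv (pvec x y p) :=
  mv_ext fun z => by
    rw [mv_emb, embM_apply, mv_tv, pvec]
    simp only [tr2, map_add, map_smul, LinearMap.add_apply, LinearMap.smul_apply, smul_eq_mul, bf_symm z x]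
    simp
    module

theorem emb_pvec {x y : VV} (hxy : bf x y = 1) (h : SL(2, F)) (p : Fin 2 → F) :
    mv (emb hxy h) (pvec x y p) = pvec x y (h.1 *ᵥ p) := by
  rw [mv_emb, embM_apply, pvec, pvec]
  simp only [map_add, map_smul, LinearMap.add_apply, LinearMap.smul_apply, smul_eq_mul, bf_self, hxy, bf_symm y x,
    Matrix.mulVec, dotProduct, Fin.sum_univ_two]
  module

theorem pvec_eq_zero {x y : VV} (hxy : bf x y = 1) {p : Fin 2 → F} (h : pvec x y p = 0) : p = 0 := by
  have h1 : bf (pvec x y p) y = p 0 := by simp [pvec, bf_self, hxy]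
  have h2 : bf x (pvec x y p) = p 1 := by simp [pvec, bf_self, hxy]
  rw [h] at h1 h2
  ext i; fin_cases i
  · simpa using h1.symm
  · simpa using h2.symm

variable [Finite F]

/-- Nonorthogonal centres are conjugate. -/
theorem exists_conj {u v : VV} (hu : u ∈ centres P) (hv : v ∈ centres P) (h : bf u v ≠ 0) :
    ∃ g ∈ P, mv g u = v := by
  set c := bf u v
  have hxy : bf (c⁻¹ • v) u = 1 := by
    rw [map_smul, LinearMap.smul_apply, smul_eq_mul, bf_symm]; exact inv_mul_cancel₀ h
  set G0 := P.comap (emb hxy)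
  have e1 : pvec (c⁻¹ • v) u ![0, 1] = u := by simp [pvec]
  have e2 : pvec (c⁻¹ • v) u ![c, 0] = v := by simp [pvec, smul_smul, mul_inv_cancel₀ h]
  have h1 : loEl (1 : F) ∈ G0 := by
    have : loEl (1 : F) = tr2 (![0, 1] : Fin 2 → F) := by rw [tr2_low, one_pow]
    rw [this, Subgroup.mem_comap, emb_tr2, e1]; exact hu.2
  have h2 : upEl (c ^ 2) ∈ G0 := by
    rw [← tr2_up, Subgroup.mem_comap, emb_tr2, e2]; exact hv.2
  obtain ⟨x, hx, hxe⟩ := conj_outside one_ne_zero h1 h2 (by rw [upEl_mul, CharTwo.add_self_eq_zero, upEl_zero])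
    (fun hm => h ((sq_eq_zero_iff (a := c)).1 (by simpa [mem_lowerTri, upEl_coe] using hm)))
  rw [← one_pow (M := F) 2, ← tr2_low, ← tr2_up, tr2_conj] at hxe
  refine ⟨_, Subgroup.mem_comap.1 hx, ?_⟩
  refine (congrArg (mv (emb hxy x)) e1.symm).trans ?_
  rw [emb_pvec, tr2_inj hxe, e2]

variable (S : Setup P) (hne : (centres P).Nonempty)

theorem commute_tv {u w : VV} (h : Commute (tv u) (tv w)) : bf u w = 0 := by
  have h1 : tv u * tv w * (tv u : GG)⁻¹ = tv w := by rw [h.eq, mul_inv_cancel_right]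
  rw [tv_conj (tv_mem u)] at h1
  have h2 := (mv_tv u w).symm.trans (tv_inj h1)
  rw [add_eq_left] at h2
  rcases smul_eq_zero.1 h2 with e | e
  · rw [bf_symm]; exact e
  · rw [e, map_zero, LinearMap.zero_apply]

include S hne

theorem Setup.gen : Subgroup.closure (tv '' centres P) = P := by
  haveI := S.simple
  set N := Subgroup.closure (tv '' centres P)
  have hN : N ≤ P := by
    rw [Subgroup.closure_le]; rintro _ ⟨v, hv, rfl⟩; exact hv.2
  haveI : (N.subgroupOf P).Normal := by
    rw [Subgroup.normal_subgroupOf_iff_le_normalizer hN]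
    refine fun g hg => Cfsg.Lib.ZStarApps.mem_normalizer_of_maps fun a ha => ?_
    induction ha using Subgroup.closure_induction with
    | mem a ha =>
      obtain ⟨v, hv, rfl⟩ := ha
      rw [tv_conj (S.le hg)]
      exact Subgroup.subset_closure ⟨_, centres_map S.le hg hv, rfl⟩
    | one => simp
    | mul a b _ _ ha hb => rw [show g * (a * b) * g⁻¹ = g * a * g⁻¹ * (g * b * g⁻¹) by group]; exact mul_mem ha hb
    | inv a _ ha => rw [show g * a⁻¹ * g⁻¹ = (g * a * g⁻¹)⁻¹ by group]; exact inv_mem ha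
  rcases IsSimpleGroup.eq_bot_or_eq_top_of_normal (N.subgroupOf P) inferInstance with e | e
  · exfalso
    obtain ⟨v, hv⟩ := hne
    have : (⟨tv v, hv.2⟩ : P) ∈ N.subgroupOf P := Subgroup.mem_subgroupOf.2 (Subgroup.subset_closure ⟨v, hv, rfl⟩)
    rw [e, Subgroup.mem_bot] at this
    exact tv_ne_one hv.1 (congrArg Subtype.val this)
  · exact le_antisymm hN fun g hg => Subgroup.mem_subgroupOf.1 (e ▸ Subgroup.mem_top (⟨g, hg⟩ : P))

omit S hne in
/-- A subspace stable under all centres' transvections is stable under the group. -/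
theorem stable_of_centres {W : Submodule F VV} (h : ∀ v ∈ centres P, ∀ w ∈ W, mv (tv v) w ∈ W)
    (hg : Subgroup.closure (tv '' centres P) = P) {g : GG} (hgP : g ∈ P) : ∀ w ∈ W, mv g w ∈ W := by
  rw [← hg] at hgP
  induction hgP using Subgroup.closure_induction_left with
  | one => intro w hw; rwa [mv_one]
  | mul_left x hx y _ ih =>
    obtain ⟨v, hv, rfl⟩ := hx
    intro w hw; rw [mv_mul]; exact h v hv _ (ih w hw)
  | inv_mul_cancel x hx y _ ih =>
    obtain ⟨v, hv, rfl⟩ := hx
    intro w hw; rw [tv_inv, mv_mul]; exact h v hv _ (ih w hw)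

theorem Setup.span_top : Submodule.span F (centres P) = ⊤ := by
  obtain ⟨v, hv⟩ := hne
  refine (S.irr _ fun g hg w hw => ?_).resolve_left fun e => hv.1 ((Submodule.mem_bot F).1
    (e ▸ Submodule.subset_span hv))
  refine stable_of_centres (fun u hu z hz => ?_) (S.gen ⟨v, hv⟩) hg w hw
  rw [mv_tv]
  exact Submodule.add_mem _ hz (Submodule.smul_mem _ _ (Submodule.subset_span hu))

/-- Linear maps agreeing on the centres agree. -/
theorem Setup.ext_centres {M : Type*} [AddCommGroup M] [Module F M] {f g : VV →ₗ[F] M}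
    (h : ∀ v ∈ centres P, f v = g v) : f = g :=
  LinearMap.ext_on (S.span_top hne) h

theorem Setup.exists_nonperp {z : VV} (hz : z ≠ 0) : ∃ v ∈ centres P, bf z v ≠ 0 := by
  by_contra hc
  push Not at hc
  obtain ⟨y, hy⟩ := exists_bf_one hz
  have : bf z = 0 := S.ext_centres hne fun v hv => by rw [hc v hv, LinearMap.zero_apply]
  rw [bf_symm, this, LinearMap.zero_apply] at hy
  exact zero_ne_one hy

/-- The centres form one orbit. -/
theorem Setup.transitive {u v : VV} (hu : u ∈ centres P) (hv : v ∈ centres P) : ∃ g ∈ P, mv g u = v := by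
  set C := {z | z ∈ centres P ∧ ∃ g ∈ P, mv g u = z} with hC
  have huC : u ∈ C := ⟨hu, 1, P.one_mem, mv_one u⟩
  have hperp : ∀ d ∈ centres P, d ∉ C → ∀ z ∈ C, bf d z = 0 := fun d hd hdC z ⟨hz, g, hg, hgz⟩ => by
    by_contra h
    obtain ⟨g', hg', e⟩ := exists_conj hz hd (by rwa [bf_symm] at h)
    exact hdC ⟨hd, g' * g, P.mul_mem hg' hg, by rw [mv_mul, hgz, e]⟩
  have htop : Submodule.span F C = ⊤ := by
    refine (S.irr _ fun g hg w hw => ?_).resolve_left fun e => hu.1 ((Submodule.mem_bot F).1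
      (e ▸ Submodule.subset_span huC))
    induction hw using Submodule.span_induction with
    | mem z hz =>
      obtain ⟨hz, g', hg', e⟩ := hz
      exact Submodule.subset_span ⟨centres_map S.le hg hz, g * g', P.mul_mem hg hg', by rw [mv_mul, e]⟩
    | zero => simp [mv]
    | add a b _ _ ha hb => rw [mv_add]; exact Submodule.add_mem _ ha hb
    | smul c a _ ha => rw [mv_smul]; exact Submodule.smul_mem _ c ha
  by_contra hc
  have hvC : v ∉ C := fun h => hc h.2
  have : bf v = 0 := LinearMap.ext_on htop fun z hz => by rw [hperp v hv hvC z hz, LinearMap.zero_apply]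
  obtain ⟨y, hy⟩ := exists_bf_one hv.1
  rw [bf_symm, this, LinearMap.zero_apply] at hy
  exact zero_ne_one hy

/-- A transvection is not isolated. -/
theorem Setup.exists_perp {u : VV} (hu : u ∈ centres P) : ∃ w ∈ centres P, w ≠ u ∧ bf u w = 0 := by
  by_contra hc
  push Not at hc
  haveI := S.simple
  haveI : Finite P := inferInstance
  set t : P := ⟨tv u, hu.2⟩ with ht
  have ht1 : t ≠ 1 := fun e => tv_ne_one hu.1 (congrArg Subtype.val e)
  have hiso : Cfsg.IsIsolatedInvolution t := by
    refine ⟨orderOf_eq_prime (by rw [pow_two]; exact Subtype.ext (tv_sq u)) ht1, fun g hg => ?_⟩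
    refine Subtype.ext ?_
    show (g : GG) * tv u * (g : GG)⁻¹ = tv u
    have hg' : Commute (tv u : GG) ((g : GG) * tv u * (g : GG)⁻¹) := congrArg Subtype.val hg.eq
    rw [tv_conj (S.le g.2)] at hg' ⊢
    by_contra hne'
    exact hc _ (centres_map S.le g.2 hu) (fun e => hne' (by rw [e])) (commute_tv hg')
  have hz := Cfsg.Lib.ZStarApps.zstarProp hiso
  have hO : Cfsg.pPrimeCore 2 P = ⊥ := by
    rcases IsSimpleGroup.eq_bot_or_eq_top_of_normal (Cfsg.pPrimeCore 2 P) inferInstance with e | e
    · exact e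
    · exfalso
      have h1 := Cfsg.Lib.ZStarApps.odd_card_pPrimeCore (G := P)
      rw [e, Subgroup.card_top] at h1
      have h2 : 2 ∣ Nat.card P := hiso.1 ▸ orderOf_dvd_natCard t
      exact Nat.not_even_iff_odd.2 h1 (even_iff_two_dvd.2 h2)
  have hcen : t ∈ Subgroup.center P := Subgroup.mem_center_iff.2 fun g => by
    have h := hz g
    rw [hO, Subgroup.mem_bot, mul_inv_eq_one, mul_inv_eq_iff_eq_mul] at h
    exact h.symm
  rcases IsSimpleGroup.eq_bot_or_eq_top_of_normal (Subgroup.center P) inferInstance with e | e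
  · rw [e, Subgroup.mem_bot] at hcen
    exact ht1 hcen
  · refine S.nonab ⟨⟨fun a b => ?_⟩⟩
    exact (Subgroup.mem_center_iff.1 (e ▸ Subgroup.mem_top a) b).symm

end two

end Cfsg.Lib.SpFourResidual
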